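import Cfsg.Agent.TwoF.DC.TA.A3

/-!
# TwoF, defining characteristic, type `A_n` (8): `BG` and `CTF` (helper97)
-/

set_option autoImplicit false
set_option linter.unusedSectionVars false

namespace Cfsg.Agent.TwoF.DC.TA

open Finset Module
open Cfsg.Agent.H356.TA (Pos)

theorem mono_val {c c0 d d0 : ℕ} (h1 : c0 ≤ c) (h2 : c < d) (h3 : d0 ≤ d) : c0 * (2 * d0 - c0) ≤ c * (2 * d - c) := by
  obtain ⟨s, rfl⟩ := Nat.exists_eq_add_of_le h1
  obtain ⟨t, rfl⟩ := Nat.exists_eq_add_of_lt h2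
  refine (Nat.mul_le_mul_left c0 (show 2 * d0 - c0 ≤ c0 + 2 * s + 2 * t + 2 by omega)).trans ?_
  rw [show 2 * (c0 + s + t + 1) - (c0 + s) = c0 + s + 2 * t + 2 by omega]
  nlinarith

theorem bg3 : go (fun l => l.length ≤ 1 || 3 ≤ cnt T3 l) (rts 3) [] = true := by decide +kernel

variable {n : ℕ}

namespace IsA

variable {R : RC (Fin n) (Pos n)} (hR : IsA R) {p : ℕ} [Fact p.Prime]
include hR

theorem hi_mem (hn : 1 ≤ n) {S : Finset (Pos n)} (hS : S.Nonempty) (hI : R.Idl p S) : hi hn ∈ S := by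
  obtain ⟨b, hb⟩ := hS
  exact hR.idl_mem (Fact.out : p.Prime).ne_one hI hb (Fin.zero_le _) (Fin.le_last _)

theorem card_le_sq {S : Finset (Pos n)} (hA : R.Ab p S) (hI : R.Idl p S) : 4 * S.card ≤ (n + 1) * (n + 1) := by
  rcases S.eq_empty_or_nonempty with rfl | hS
  · simp
  obtain ⟨κ, h⟩ := hR.exists_MM (Fact.out : p.Prime).ne_one hS hA hI
  have h1 := card_le_card h
  have hκ := κ.2
  obtain ⟨t, ht⟩ : ∃ t, n = κ + 1 + t := ⟨n - κ - 1, by omega⟩
  rw [card_MM, show n - κ = t + 1 by omega] at h1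
  generalize (κ : ℕ) = s at ht h1
  generalize S.card = r at h1
  subst ht
  nlinarith [sq_nonneg ((s : ℤ) - t)]

variable {k L : Type} [Field k] [AddCommGroup L] [Module k L] [CharP k p] (H : HW R p k L)

theorem choose_theta (hn : 1 ≤ n) {i : Fin n} (h : H.lam i ≠ 0) {S : Finset (Pos n)} (hS : hi hn ∈ S) :
    (n - 1).choose i ≤ H.cL S := by
  have h2 : (0 : Fin (n + 1)) ≠ Fin.last n := (hi hn).2.ne
  have h0 : ∀ T ∈ powersetCard i ((univ.erase (Fin.last n)).erase 0), Fin.last n ∉ T ∧ 0 ∉ T :=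
    fun T hT => ⟨fun e => notMem_erase _ _ (mem_of_mem_erase ((mem_powersetCard.1 hT).1 e)),
      fun e => notMem_erase _ _ ((mem_powersetCard.1 hT).1 e)⟩
  have h1 := hR.card_le_cL H h S ((powersetCard i ((univ.erase (Fin.last n)).erase 0)).image (insert (Fin.last n)))
    fun T' hT' => by
      obtain ⟨T, hT, rfl⟩ := mem_image.1 hT'
      exact ⟨by rw [card_insert_of_notMem (h0 T hT).1, (mem_powersetCard.1 hT).2], _, hS,
        fun e => (mem_insert.1 e).elim h2 (h0 T hT).2, mem_insert_self _ _⟩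
  rwa [card_image_of_injOn fun T hT T' hT' e => by rw [← erase_insert (h0 T hT).1, e, erase_insert (h0 T' hT').1],
    card_powersetCard, card_erase_of_mem (mem_erase.2 ⟨h2, mem_univ _⟩), card_erase_of_mem (mem_univ _), card_univ,
    Fintype.card_fin, Nat.add_sub_cancel] at h1

omit hR in
theorem card_pairs (P : Finset (Fin (n + 1) × Fin (n + 1))) :
    (P.image fun z => (({z.1}, {z.2}) : Finset (Fin (n + 1)) × Finset (Fin (n + 1)))).card = P.card :=
  card_image_of_injective _ fun _ _ e =>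
    Prod.ext (singleton_injective (congrArg Prod.fst e)) (singleton_injective (congrArg Prod.snd e))

theorem adj_le_d (hn : 2 ≤ n) {i : Fin n} (hi : (i : ℕ) = 0) (h : H.lam i ≠ 0) (h' : H.lam i.rev ≠ 0) :
    (n + 1) * n ≤ H.d := by
  have h1 := hR.card_pair_le_d H h h' (by omega) ((univ.offDiag).image fun z => ({z.1}, {z.2})) fun z hz => by
    obtain ⟨w, hw, rfl⟩ := mem_image.1 hz
    exact ⟨disjoint_singleton.2 (mem_offDiag.1 hw).2.2, by rw [hi]; rfl, by rw [hi]; rfl⟩
  rw [card_pairs, offDiag_card, card_univ, Fintype.card_fin] at h1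
  rw [mul_add, mul_one, Nat.add_sub_cancel] at h1
  exact h1

theorem succ_le_d : n + 1 ≤ H.d := by
  obtain ⟨i, h⟩ := H.exists_lam_pos
  have h1 := hR.choose_le_d H h.ne'
  have h2 := choose_le_mid (N := n + 1) (a := 1) (m := i + 1) (by omega) (by omega)
  rw [Nat.choose_one_right] at h2
  omega

theorem mid_le_d {i : Fin n} (h : H.lam i ≠ 0) (h1 : 1 ≤ (i : ℕ)) (h2 : (i : ℕ) + 2 ≤ n) : (n + 1) * n ≤ 2 * H.d := by
  have h3 := hR.choose_le_d H h
  have h4 := choose_le_mid (N := n + 1) (a := 2) (m := i + 1) (by omega) (by omega)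
  have h5 := two_choose_two n
  omega

omit H in
theorem bg (hn : 2 ≤ n) (k : Type) [Field k] [CharP k p] : BG R p k Fin.revPerm := by
  intro L _ _ H h
  have h' : ∀ i : Fin n, H.lam i.rev = H.lam i := fun i => congrFun h i
  obtain ⟨i, h1, h2⟩ : ∃ i : Fin n, H.lam i ≠ 0 ∧ ((i : ℕ) = 0 ∨ (i : ℕ) + 2 ≤ n) := by
    obtain ⟨i, h1⟩ := H.exists_lam_pos
    by_cases h2 : (i : ℕ) + 2 ≤ n
    · exact ⟨i, h1.ne', Or.inr h2⟩
    · exact ⟨i.rev, by rw [h']; exact h1.ne', Or.inl (by rw [Fin.val_rev]; omega)⟩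
  by_cases h0 : (i : ℕ) = 0
  · have a1 := hR.adj_le_d H hn h0 h1 (by rwa [h'])
    refine ⟨by nlinarith, fun S hS hA hI => ?_⟩
    have a2 := hR.card_le_sq hA hI
    have a3 : 2 ≤ H.cL S := by
      have e1 : (0 : Fin (n + 1)) ≠ ⟨1, by omega⟩ := by simp [Fin.ext_iff]
      have a3 := hR.card_pair_le_cL H h1 (by rwa [h']) (by omega) S
        (({(Fin.last n, 0), (Fin.last n, ⟨1, by omega⟩)} : Finset _).image fun z => ({z.1}, {z.2})) fun z hz => by
          obtain ⟨w, hw, rfl⟩ := mem_image.1 hz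
          rw [mem_insert, mem_singleton] at hw
          refine ⟨⟨disjoint_singleton.2 ?_, by rw [h0]; rfl, by rw [h0]; rfl⟩, _, hR.hi_mem (by omega) hS hI, ?_⟩ <;>
            rcases hw with rfl | rfl <;>
            simp only [hi, ind, Pi.sub_apply, mem_singleton, ne_eq, Fin.ext_iff, Fin.val_last, Fin.val_zero, if_true] <;>
            omega
      rwa [card_pairs, card_pair fun e => e1 (congrArg Prod.snd e)] at a3
    have a4 := mono_val a3 (H.cL_lt_d S) a1
    have a5 : (n + 1) * (n + 1) + 12 < 4 * ((n + 1) * n) := by nlinarith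
    omega
  have h3 : (i : ℕ) + 2 ≤ n := by omega
  have a1 := hR.mid_le_d H h1 (by omega) h3
  refine ⟨by nlinarith [show 3 ≤ n by omega], fun S hS hA hI => ?_⟩
  have a2 := hR.card_le_sq hA hI
  have a3 := hR.choose_theta H (by omega) h1 (hR.hi_mem (by omega) hS hI)
  have a4 := choose_le_mid (N := n - 1) (a := 1) (m := i) (by omega) (by omega)
  rw [Nat.choose_one_right] at a4
  have a5 := H.cL_lt_d S
  by_cases h4 : n = 3
  · subst h4
    obtain rfl : i = 1 := Fin.ext (by omega)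
    obtain ⟨l, b1, b2, b3⟩ := go_fin S ((hR.ab_iff (Fact.out : p.Prime).ne_one S).1 hA) bg3
    have b4 := hR.cnt_le H h1 T3_card T3_nodup b3
    simp only [Bool.or_eq_true, decide_eq_true_iff] at b1
    rcases b1 with e | e
    · have := mono_val (c0 := 2) (d0 := 6) (by omega) a5 (by omega); omega
    · have := mono_val (c0 := 3) (d0 := 6) (by omega) a5 (by omega); omega
  · have b1 := mono_val (c0 := n - 1) (d0 := H.d) (by omega) a5 le_rfl
    obtain ⟨t, rfl⟩ : ∃ t, n = t + 4 := ⟨n - 4, by omega⟩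
    rw [show t + 4 - 1 = t + 3 by omega] at b1
    have b2 : (t + 3) * (t * t + 8 * t + 17) ≤ (t + 3) * (2 * H.d - (t + 3)) :=
      Nat.mul_le_mul_left _ (Nat.le_sub_of_add_le (by nlinarith))
    nlinarith

theorem nat_of_d (hp : p = 2) (h : 2 ≤ n → H.d ≤ n + 1) : Sg H.lam 0 ∨ Sg H.lam (n - 1) := by
  have h1 : ∀ i : Fin n, H.lam i ≠ 0 → (i : ℕ) = 0 ∨ (i : ℕ) = n - 1 := fun i hi => by
    by_contra e
    have := i.2
    have := hR.mid_le_d H hi (by omega) (by omega)
    have := h (by omega)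
    nlinarith [show 3 ≤ n by omega]
  obtain ⟨i, h2⟩ := H.exists_lam_pos
  have h3 : H.lam = Pi.single i 1 := funext fun j => by
    by_cases e : j = i
    · have := H.lam_lt i
      rw [e, Pi.single_eq_same]; omega
    · rw [Pi.single_eq_of_ne e]
      by_contra e'
      have e1 : (j : ℕ) ≠ i := fun e1 => e (Fin.ext e1)
      have key : ∀ a b : Fin n, (a : ℕ) = 0 → (b : ℕ) = n - 1 → (a : ℕ) ≠ b → H.lam a ≠ 0 → H.lam b ≠ 0 → False := by
        intro a b ha hb hab h4 h5
        have := hR.adj_le_d H (by omega) ha h4 (by rwa [show a.rev = b from Fin.ext (by rw [Fin.val_rev]; omega)])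
        have := h (by omega)
        nlinarith [show 2 ≤ n by omega]
      rcases h1 i h2.ne' with a | a <;> rcases h1 j e' with b | b
      · omega
      · exact key i j a b e1.symm h2.ne' e'
      · exact key j i b a e1 e' h2.ne'
      · omega
  exact (h1 i h2.ne').imp (fun e => ⟨i, e, h3⟩) fun e => ⟨i, e, h3⟩

end IsA

variable {p : ℕ} {k G : Type} [Field k] [Group G] {D : RDat p (Fin n) (Pos n) k G} [Fact p.Prime] [CharP k p]
  [Infinite k] {T S : Type} [Group T] [Finite T] [Group S] {M : Std D T S} (hM : StdA M)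
include hM

theorem StdA.ctf (hn : 1 ≤ n) (hp : p = 2) : CTF D (fun _ => True) (M.gι M.σ) M.Q := by
  intro J _ _ L _ _ H rep _ S' hA hI sl h1 h2 h3
  have hR := hM.isA
  have a1 := hR.card_le_sq hA hI
  have a2 : ∀ j, n + 1 ≤ (H j).d := fun j => hR.succ_le_d (H j)
  have a3 : ∀ {d e : ℕ}, e + 1 ≤ d → (e + 1) * e ≤ d * (d - 1) := fun h => Nat.mul_le_mul h (by omega)
  have a4 : (S'.card = 0 ∧ (if S'.Nonempty then 2 else 0) = 0) ∨ (if S'.Nonempty then 2 else 0) = 2 := by
    split_ifs with e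
    · exact Or.inr rfl
    · exact Or.inl ⟨by rw [not_nonempty_iff_eq_empty.1 e]; rfl, rfl⟩
  generalize (if S'.Nonempty then 2 else 0) = ε at h3 a4
  have hJ : Fintype.card J = 1 := by
    by_contra e
    have b0 : 2 ≤ Fintype.card J := by have := Fintype.card_pos (α := J); omega
    have b1 : ∀ e : ℕ, (∀ j, e + 1 ≤ (H j).d) → 2 * ((e + 1) * e + ε) ≤ 4 * S'.card + sl := fun e he => by
      have := card_nsmul_le_sum univ (fun j => (H j).d * ((H j).d - 1) + ε) ((e + 1) * e + ε)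
        fun j _ => Nat.add_le_add_right (a3 (he j)) _
      rw [card_univ, smul_eq_mul] at this
      exact ((Nat.mul_le_mul_right _ b0).trans this).trans h3
    have b2 := b1 n a2
    have b3 : n = 1 := by rcases a4 with ⟨e1, rfl⟩ | rfl <;> nlinarith
    subst b3
    rcases h2 with e1 | e1 | e1 | e1
    · exact e e1
    · have := b1 2 e1; omega
    · omega
    · omega
  refine ⟨hJ, fun hσ => ?_⟩
  obtain ⟨j0, hj0⟩ := Fintype.card_eq_one_iff.1 hJ
  have hu : (univ : Finset J) = {j0} := eq_singleton_iff_unique_mem.2 ⟨mem_univ _, fun j _ => hj0 j⟩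
  rw [hu, sum_singleton] at h3
  have b1 : (H j0).d ≤ n + 1 ∨ n = 1 := by
    by_contra e
    have := a3 (d := (H j0).d) (e := n + 1) (by omega)
    rcases a4 with ⟨e1, rfl⟩ | rfl <;> nlinarith [show 2 ≤ n by omega]
  have b2 := hR.nat_of_d (H j0) hp fun e => b1.resolve_right (by omega)
  have b3 : (H j0).d ≤ n + 1 := by
    rcases b2 with ⟨i, e1, e2⟩ | ⟨i, e1, e2⟩ <;> have := hR.d_single_le _ e2 <;> rw [e1] at this
    · rwa [Nat.zero_add, Nat.choose_one_right] at this
    · rwa [show n - 1 + 1 = n by omega, Nat.choose_succ_self_right] at this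
  rcases hM.gr M.σ with e | ⟨h4, e, -⟩
  · have key : ∀ κ : Fin n, (H j0).cL (MM κ) ≤ 1 → (κ + 1) * (n - κ) = n →
        ∑ j, (if true then (H j).cL (MM κ) * (2 * (H j).d - (H j).cL (MM κ)) else 2 * (H j).cL (MM κ)) ≤ 4 * (MM κ).card := by
      intro κ c1 c2
      rw [hu, sum_singleton, if_pos rfl, card_MM, c2]
      rcases Nat.le_one_iff_eq_zero_or_eq_one.1 c1 with e | e <;> rw [e] <;> omega
    rcases b2 with e1 | e1
    · refine hM.good e (key ⟨n - 1, by omega⟩ (((H j0).cL_le_cG _).trans ((hR.cG_nat _ e1 _).trans ?_)) ?_)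
      · rw [image_snd_MM hR]; simp only; omega
      · simp only; rw [show n - (n - 1) = 1 by omega]; omega
    · refine hM.good e (key ⟨0, by omega⟩ (((H j0).cL_le_cG _).trans ((hR.cG_dual _ e1 _).trans ?_)) (by simp))
      rw [image_fst_MM hR]
  · exfalso
    have c1 := hσ j0
    rw [e] at c1
    rcases b2 with ⟨i, e1, e2⟩ | ⟨i, e1, e2⟩ <;> rw [e2, single_rev] at c1 <;> have c2 := congrFun c1 i <;>
      rw [Pi.single_eq_same, Pi.single_eq_of_ne fun e => by rw [Fin.ext_iff, Fin.val_rev] at e; omega] at c2 <;> cases c2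

end Cfsg.Agent.TwoF.DC.TA
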