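import Cfsg.Agent.TwoF.DC.TA.Bg

/-!
# TwoF, defining characteristic, type `A_n` (9): modules with a graph automorphism (helper97)
-/

set_option autoImplicit false
set_option linter.unusedSectionVars false

namespace Cfsg.Agent.TwoF.DC.TA

open Finset Module
open Cfsg.Agent.H356.TA (Pos)

/-- only smaller mirror images, no root whose sum with its mirror image is a root -/
def low (n : ℕ) (g : List ℕ) (l : List (ℕ × ℕ)) : Bool := l.all fun r => !lo n g r && r.1 + r.1 != n && r.2 + r.2 != n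
/-- the four element subsets of `Fin 8` -/
def T7 : List ℕ := (List.range 256).filter fun T => (Tset 7 T).card = 4

theorem gen2 : ∀ b : Pos 2, fl 2 b = b ∨ lo 2 [0, 1, 1] (vl b) ∨ lo 2 [0, 1, 1] (vl (fl 2 b)) := by decide +kernel
theorem gen4 : ∀ b : Pos 4, fl 4 b = b ∨ lo 4 [0, 1, 2, 2, 2] (vl b) ∨ lo 4 [0, 1, 2, 2, 2] (vl (fl 4 b)) := by
  decide +kernel
theorem gen5c : ∀ b : Pos 5, fl 5 b = b ∨ lo 5 [0, 1, 2, 2, 2, 2] (vl b) ∨ lo 5 [0, 1, 2, 2, 2, 2] (vl (fl 5 b)) := by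
  decide +kernel
theorem cg2 : go (fun l => !low 2 [0, 1, 1] l || l.length == 0 || (l.length == 1 && l.contains (0, 2))) (rts 2) [] = true := by
  decide +kernel
theorem cg3 : go (fun l => !low 3 [0, 1, 1, 1] l || l.length ≤ 3) (rts 3) [] = true := by decide +kernel
theorem cg4 : go (fun l => !low 4 [0, 1, 2, 2, 2] l || l.length ≤ 3) (rts 4) [] = true := by decide +kernel
theorem cg5a : go (fun l => !low 5 [1, 2, 0, 0, 0, 0] l || l.length == 0 || 2 * l.length + 2 < cnt T5 l ||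
    l.contains (1, 4)) (rts 5) [] = true := by decide +kernel
theorem cg5b : go (fun l => !low 5 [0, 2, 1, 1, 1, 1] l || 2 * l.length + 2 < cnt T5 l || l.length ≤ 5)
    (rts 5) [] = true := by decide +kernel
theorem cg5c : go (fun l => !low 5 [0, 1, 2, 2, 2, 2] l || !l.contains (1, 4) || 2 * l.length + 2 < cnt T5 l ||
    l.length == 7) (rts 5) [] = true := by decide +kernel
theorem cg7 : cnt T7 [(0, 7), (0, 6), (1, 7)] = 40 := by decide +kernel

theorem T7_nodup : (T7.map (Tset 7)).Nodup := (List.nodup_range.filter _).map_on fun T hT T' hT' e => by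
  have h1 := List.mem_range.1 (List.mem_filter.1 hT).1
  have h2 := List.mem_range.1 (List.mem_filter.1 hT').1
  refine Nat.eq_of_testBit_eq fun j => ?_
  by_cases h : j < 8
  · have := Finset.ext_iff.1 e ⟨j, h⟩
    simp only [Tset, mem_filter, mem_univ, true_and] at this
    exact Bool.eq_iff_iff.2 this
  · have h3 : 256 ≤ 2 ^ j := Nat.pow_le_pow_right (n := 2) (by omega) (show 8 ≤ j by omega)
    rw [Nat.testBit_eq_false_of_lt (by omega), Nat.testBit_eq_false_of_lt (by omega)]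

theorem lt_choose_two {i : ℕ} (h : 4 ≤ i) : 2 * ((i + 1) * (i + 1)) + 2 < (2 * i).choose i := by
  induction i, h using Nat.le_induction with
  | base => decide
  | succ i h ih =>
    have h1 := Nat.choose_le_choose i (show 2 * i ≤ 2 * i + 1 by omega)
    rw [show 2 * (i + 1) = 2 * i + 1 + 1 by ring, Nat.choose_succ_succ', Nat.choose_symm_half]
    nlinarith

variable {n : ℕ} {R : RC (Fin n) (Pos n)} {p : ℕ} {k L : Type} [Field k] [AddCommGroup L] [Module k L]

theorem fix_gen {H : HW R p k L} {γ : Equiv.Perm (Fin n)} {γ' : Equiv.Perm (Pos n)} (g : H.GOp γ γ') {ι : Type}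
    [Fintype ι] (μ : ι → Fin n → ℤ) (v : ι → L) (hv : ∀ i, v i ∈ H.w (μ i)) (hμ : Function.Injective μ)
    (h : ∀ i, (v i ≠ 0 ∧ ∀ j, μ j ∘ γ.symm ≠ μ i) ∨ (g.g (v i) ≠ v i ∧ μ i ∘ γ.symm = μ i)) :
    Fintype.card ι + finrank k (LinearMap.ker (g.g.toLinearMap - 1)) ≤ H.d := by
  have := H.fd
  refine card_add_le _ v fun c hc i => ?_
  have h1 := congrArg (H.pr (μ i)) (sub_eq_zero.1 (LinearMap.mem_ker.1 hc))
  rw [LinearEquiv.coe_coe, map_sum, map_sum, Module.End.one_apply, map_sum, sum_eq_single i (f := fun j => H.pr (μ i) (c j • v j))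
    (fun j _ hj => by rw [map_smul, H.pr_of_ne (hv j) fun e => hj (hμ e), smul_zero]) (fun e => (e (mem_univ _)).elim),
    map_smul, H.pr_of_mem (hv i)] at h1
  rcases h i with ⟨h2, h3⟩ | ⟨h2, h3⟩
  · rw [sum_eq_zero fun j _ => by rw [map_smul, map_smul, H.pr_of_ne (g.g_w _ _ (hv j)) (h3 j), smul_zero]] at h1
    exact (smul_eq_zero.1 h1.symm).resolve_right h2
  · rw [sum_eq_single i (fun j _ hj => by
      rw [map_smul, map_smul, H.pr_of_ne (g.g_w _ _ (hv j)) fun e => hj (hμ (γ.symm.surjective.injective_comp_right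
        (e.trans h3.symm))), smul_zero]) (fun e => (e (mem_univ _)).elim), map_smul, map_smul,
      H.pr_of_mem (h3 ▸ g.g_w _ _ (hv i)), ← sub_eq_zero, ← smul_sub] at h1
    exact (smul_eq_zero.1 h1).resolve_right (sub_ne_zero.2 h2)

theorem fix_vec {H : HW R p k L} {γ' : Equiv.Perm (Pos n)} (g : H.GOp Fin.revPerm γ') (A : Finset (Fin (n + 1) → ℤ))
    (hA : ∀ m ∈ A, H.IsWt (tw m) ∧ ∑ a, m a = ∑ a, m0 H a ∧ 2 * ∑ a, m a < (n + 1) * (m 0 + m (Fin.last n))) :
    A.card + finrank k (LinearMap.ker (g.g.toLinearMap - 1)) ≤ H.d := by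
  choose v hv h0 using fun m : A => H.isWt_iff.1 (hA m.1 m.2).1
  rw [← Fintype.card_coe]
  refine fix_gen g (fun m : A => tw m.1) v hv (fun m m' e => Subtype.ext (tw_inj e
    ((hA _ m.2).2.1.trans (hA _ m'.2).2.1.symm))) fun m => Or.inl ⟨h0 m, fun m' e => ?_⟩
  rw [tw_rev, ← sub_eq_zero, ← tw_sub] at e
  have h1 := const_of_tw e
  have h2 : ∑ a, (-(m'.1 ∘ rv n) - m.1) a = (n + 1) * (-(m'.1 ∘ rv n) - m.1) 0 := by
    rw [sum_congr rfl fun a _ => h1 a, sum_const, card_univ, Fintype.card_fin, nsmul_eq_mul]; push_cast; rfl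
  have h3 := h1 (Fin.last n)
  have h4 := (hA _ m.2).2.2
  have h5 := (hA _ m'.2).2.2
  have h6 := sum_comp m'.1 (rv n)
  have r0 : rv n 0 = Fin.last n := Fin.rev_zero n
  have r1 : rv n (Fin.last n) = 0 := Fin.rev_last n
  simp only [Pi.sub_apply, Pi.neg_apply, sum_sub_distrib, sum_neg_distrib, h6] at h2
  simp only [Pi.sub_apply, Pi.neg_apply, Function.comp_apply, r0, r1] at h2 h3
  have h7 : m'.1 0 = m'.1 (Fin.last n) + m.1 0 - m.1 (Fin.last n) := by omega
  rw [h7] at h5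
  nlinarith

theorem two_sum {H : HW R p k L} (h : H.lam ∘ (Fin.revPerm : Equiv.Perm (Fin n)).symm = H.lam) :
    2 * ∑ a, m0 H a = (n + 1) * (m0 H 0 + m0 H (Fin.last n)) := by
  have e : tw (m0 H + m0 H ∘ rv n) = 0 := by
    rw [← sub_neg_eq_add, tw_sub, ← tw_rev, tw_m0, sub_eq_zero]
    exact funext fun i => congrArg Nat.cast (congrFun h i).symm
  have h1 := sum_congr (rfl : (univ : Finset (Fin (n + 1))) = _) fun a _ => const_of_tw e a
  have r0 : rv n 0 = Fin.last n := Fin.rev_zero n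
  rw [sum_const, card_univ, Fintype.card_fin, nsmul_eq_mul] at h1
  simp only [Pi.add_apply, sum_add_distrib, sum_comp] at h1
  rw [Function.comp_apply, r0] at h1
  push_cast at h1
  omega

/-- the second index -/
def o1 (hn : 2 ≤ n) : Fin (n + 1) := ⟨1, by omega⟩

theorem sw_zero (hn : 2 ≤ n) : Equiv.swap (o1 hn) (Fin.last n) 0 = 0 :=
  Equiv.swap_apply_of_ne_of_ne (by simp [o1, Fin.ext_iff]) (by simp only [ne_eq, Fin.ext_iff, Fin.val_zero, Fin.val_last]; omega)

theorem last_lt_one {H : HW R p k L} (hn : 2 ≤ n) (h : H.lam ∘ (Fin.revPerm : Equiv.Perm (Fin n)).symm = H.lam) :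
    m0 H (Fin.last n) < m0 H (o1 hn) := by
  obtain ⟨i, h1⟩ := H.exists_lam_pos
  have h' : H.lam i.rev = H.lam i := congrFun h i
  by_cases h2 : 1 ≤ (i : ℕ)
  · have := m0_add_le H i (a := o1 hn) (b := Fin.last n) h2 i.2; omega
  · have := m0_add_le H i.rev (a := o1 hn) (b := Fin.last n) (by rw [Fin.val_rev]; show 1 ≤ _; omega) i.rev.2; omega

namespace IsA

variable (hR : IsA R) {H : HW R p k L}
include hR

theorem fix_orb (hn : 2 ≤ n) (h : H.lam ∘ (Fin.revPerm : Equiv.Perm (Fin n)).symm = H.lam) {γ' : Equiv.Perm (Pos n)}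
    (g : H.GOp Fin.revPerm γ') {I J : Finset (Fin (n + 1))} (hI : ∀ a ∈ I, a = 0 ∨ a = Fin.last n)
    (hJ : ∀ a ∈ J, a ≠ 0 ∧ a ≠ Fin.last n) (h1 : NC I (m0 H ∘ Equiv.swap (o1 hn) (Fin.last n)))
    (h2 : NC J (m0 H ∘ Equiv.swap (o1 hn) (Fin.last n))) :
    I.card * J.card + finrank k (LinearMap.ker (g.g.toLinearMap - 1)) ≤ H.d := by
  obtain ⟨A, a1, a2⟩ := exists_orb (disjoint_left.2 fun a ha ha' => (hI a ha).elim (hJ a ha').1 (hJ a ha').2) _ h1 h2
  rw [← a1]
  refine fix_vec g A fun m hm => ?_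
  obtain ⟨π, rfl, b1, -, b3⟩ := a2 m hm
  have c : ∀ a, a = 0 ∨ a = Fin.last n → π a = 0 ∨ π a = Fin.last n := fun a ha => by
    by_cases e : a ∈ I
    · exact hI _ ((b1 a).2 e)
    · rwa [b3 a e fun e' => ha.elim (hJ a e').1 (hJ a e').2]
  have c0 : π 0 ≠ π (Fin.last n) := fun e => (hi (by omega : 1 ≤ n)).2.ne (π.injective e)
  refine ⟨(hR.isWt_perm H _ π).2 (hR.ext_perm H _).isWt, by rw [sum_comp, sum_comp], ?_⟩
  have c1 := last_lt_one hn h
  rw [sum_comp, sum_comp, two_sum h]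
  refine mul_lt_mul_of_pos_left ?_ (by positivity)
  rcases c 0 (Or.inl rfl) with e | e <;> rcases c _ (Or.inr rfl) with e' | e'
  · exact (c0 (e.trans e'.symm)).elim
  · simp only [Function.comp_apply, e, e', sw_zero, Equiv.swap_apply_right]; omega
  · simp only [Function.comp_apply, e, e', sw_zero, Equiv.swap_apply_right]; omega
  · exact (c0 (e.trans e'.symm)).elim

theorem fix_one (hn : 2 ≤ n) (h : H.lam ∘ (Fin.revPerm : Equiv.Perm (Fin n)).symm = H.lam) {γ' : Equiv.Perm (Pos n)}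
    (g : H.GOp Fin.revPerm γ') : 1 + finrank k (LinearMap.ker (g.g.toLinearMap - 1)) ≤ H.d :=
  hR.fix_orb hn h g (I := {0}) (J := {o1 hn}) (by simp) (fun a ha => by
    rw [mem_singleton.1 ha]; simp only [o1, ne_eq, Fin.ext_iff, Fin.val_zero, Fin.val_last]; omega)
    (Or.inl le_rfl) (Or.inl le_rfl)

theorem fix_three (hn : 3 ≤ n) (h : H.lam ∘ (Fin.revPerm : Equiv.Perm (Fin n)).symm = H.lam) {γ' : Equiv.Perm (Pos n)}
    (g : H.GOp Fin.revPerm γ') (h3 : n = 3 → H.lam ⟨0, by omega⟩ ≠ 0) :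
    3 + finrank k (LinearMap.ker (g.g.toLinearMap - 1)) ≤ H.d := by
  have h' : ∀ i : Fin n, H.lam i.rev = H.lam i := fun i => congrFun h i
  have hJ : ∀ a ∈ ini n n \ ini n 1, a ≠ 0 ∧ a ≠ Fin.last n := fun a ha => by
    simp only [mem_sdiff, mem_ini, ne_eq, Fin.ext_iff, Fin.val_zero, Fin.val_last] at ha ⊢; omega
  have hc : (ini n n \ ini n 1).card = n - 1 := by
    rw [card_sdiff, ini_inter, card_ini (by omega), card_ini (by omega)]; omega
  have h2 : NC (ini n n \ ini n 1) (m0 H ∘ Equiv.swap (o1 (by omega)) (Fin.last n)) := by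
    obtain ⟨i, a1, a2⟩ : ∃ i : Fin n, H.lam i ≠ 0 ∧ 2 ≤ (i : ℕ) := by
      by_cases e : n = 3
      · exact ⟨_, by rw [h']; exact h3 e, by rw [Fin.val_rev]; simp only; omega⟩
      obtain ⟨i, a1⟩ := H.exists_lam_pos
      by_cases e' : 2 ≤ (i : ℕ)
      · exact ⟨i, a1.ne', e'⟩
      · exact ⟨i.rev, by rw [h']; exact a1.ne', by rw [Fin.val_rev]; omega⟩
    refine Or.inr ⟨o1 (by omega), by simp only [mem_sdiff, mem_ini, o1]; omega, ⟨2, by omega⟩,
      by simp only [mem_sdiff, mem_ini]; omega, ?_⟩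
    have := m0_add_le H i (a := ⟨2, by omega⟩) (b := Fin.last n) a2 i.2
    rw [Function.comp_apply, Function.comp_apply, Equiv.swap_apply_left, Equiv.swap_apply_of_ne_of_ne
      (by simp [o1, Fin.ext_iff]) (by simp only [ne_eq, Fin.ext_iff, Fin.val_last]; omega)]
    omega
  by_cases e : n = 3
  · have h0 : (0 : Fin (n + 1)) ≠ Fin.last n := (hi (by omega : 1 ≤ n)).2.ne
    have := hR.fix_orb (by omega) h g (I := {0, Fin.last n}) (by simp) hJ (Or.inr ⟨0, by simp, Fin.last n, by simp, by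
      have := m0_add_le H ⟨0, by omega⟩ (a := 0) (b := o1 (by omega)) le_rfl Nat.one_pos
      have := h3 e
      rw [Function.comp_apply, Function.comp_apply, sw_zero, Equiv.swap_apply_right]; omega⟩) h2
    rw [card_pair h0, hc] at this; omega
  · have := hR.fix_orb (by omega) h g (I := {0}) (by simp) hJ (Or.inl le_rfl) h2
    rw [card_singleton, hc] at this; omega

variable [Fact p.Prime] [CharP k p]

theorem sq_ne (hp : p = 2) {b b' : Pos n} {x y : k} (hx : x ≠ 0) (hy : y ≠ 0)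
    (h : (x • H.E (true, b) 1 + y • H.E (true, b') 1) ^ p = 0) : b.1.2 ≠ b'.1.1 ∧ b'.1.2 ≠ b.1.1 := by
  have h1 := H.E1_pow_p (true, b)
  have h2 := H.E1_pow_p (true, b')
  subst hp
  have two : (2 : k) = 0 := by exact_mod_cast CharP.cast_eq_zero k 2
  rw [sq] at h h1 h2
  simp only [add_mul, mul_add, smul_mul_assoc, mul_smul_comm, h1, h2, smul_zero, zero_add, add_zero] at h
  have h3 : Commute (H.E (true, b) 1) (H.E (true, b') 1) := by
    refine sub_eq_zero.1 ((smul_eq_zero (r := x * y)).1 ?_ |>.resolve_left (mul_ne_zero hx hy))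
    have h4 : (2 * (x * y)) • (H.E (true, b') 1 * H.E (true, b) 1) = 0 := by rw [two, zero_mul, zero_smul]
    linear_combination (norm := module) h - h4
  exact ⟨hR.ne_of_commute H h3, hR.ne_of_commute H h3.symm⟩

theorem deg_low (hp : p = 2) {X : Set (Module.End k L)} {S O : Finset (Pos n)} (h : Ops H X S O)
    (hS : ∀ b ∈ S, fl n b = b) (hX : ∀ f ∈ X, f ^ p = 0) {N : Submodule k L} (hN : ∀ f ∈ X, N ≤ LinearMap.ker f)
    (g : List ℕ) (hg : ∀ b : Pos n, fl n b = b ∨ lo n g (vl b) ∨ lo n g (vl (fl n b)))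
    {test : List (ℕ × ℕ) → Bool} (ht : go test (rts n) [] = true) :
    ∃ l, test l = true ∧ l.length = S.card + O.card ∧ low n g l = true ∧ (∀ b ∈ S, vl b ∈ l) ∧
      (∀ b : Pos n, vl b ∈ l → fl n b = b → b ∈ S) ∧ ∀ (i : Fin n) (Ts : List ℕ), H.lam i ≠ 0 →
        (∀ T ∈ Ts, (Tset n T).card = i + 1) → (Ts.map (Tset n)).Nodup → cnt Ts l ≤ H.d - finrank k N := by
  obtain ⟨S', a1, a2, a3, a4, a5⟩ := hR.deg h hN g hg
  obtain ⟨l, b1, b2, b3⟩ := go_fin S' a2 ht
  have fx : ∀ b : Pos n, fl n b = b → lo n g (vl b) = false := fun b e => by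
    by_contra e'
    exact e' (not_lo_both g b (by rw [e]; simpa using e'))
  refine ⟨l, b1, b2.trans a1, List.all_eq_true.2 fun r hr => ?_, fun b hb => (b3 _).2 ⟨b, a4 hb, rfl⟩, fun b hb e => ?_,
    fun i Ts c1 c2 c3 => (hR.cnt_le H c1 c2 c3 b3).trans (Nat.sub_le_sub_left a3 _)⟩
  · obtain ⟨b, hb, rfl⟩ := (b3 r).1 hr
    have c1 := fl_fst b
    have c2 := fl_snd b
    have c3 := pos_lt b
    have c4 := b.1.2.2
    simp only [Bool.and_eq_true, Bool.not_eq_true', bne_iff_ne]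
    rcases a5 b hb with e | ⟨e, x, y, hx, hy, e'⟩
    · rw [hS b e] at c1 c2
      exact ⟨⟨fx b (hS b e), by simp only [vl]; omega⟩, by simp only [vl]; omega⟩
    · have c5 := hR.sq_ne hp hx hy (hX _ e')
      simp only [ne_eq, Fin.ext_iff] at c5
      exact ⟨⟨not_lo_both g b e, by simp only [vl]; omega⟩, by simp only [vl]; omega⟩
  · obtain ⟨b', hb', e'⟩ := (b3 _).1 hb
    obtain rfl := vl_inj e'
    exact (a5 b' hb').resolve_right fun c => by have c1 := c.1; rw [e, fx b' e] at c1; cases c1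

theorem cL_succ (hn : 2 ≤ n) {S : Finset (Pos n)} (hS : hi (by omega) ∈ S) (h1 : m0 H (Fin.last n) + 2 ≤ m0 H 0)
    (h2 : m0 H (Fin.last n) < m0 H (o1 hn)) (A : Finset (Fin n → ℤ))
    (hA : ∀ ν ∈ A, H.Ext ν ∧ ∃ b ∈ S, R.pair ν (true, b) < 0) : A.card + 1 ≤ H.cL S := by
  classical
  have e0 := hR.ext_perm H (Equiv.swap (o1 hn) (Fin.last n))
  let β : Pos n := ⟨(0, o1 hn), Nat.one_pos⟩
  let z : Pos n := ⟨(o1 hn, Fin.last n), show 1 < n from hn⟩
  have h3 := m0_anti H (Fin.zero_le (o1 hn))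
  have e1 := not_ext_sub e0 (x := (true, β)) (by
    rw [hR.pair_tw, Function.comp_apply, Function.comp_apply, sw_zero, Equiv.swap_apply_left]; omega)
  rw [← card_insert_of_notMem fun e => e1 (hA _ e).1]
  refine H.card_le_cL S _ fun μ hμ => ?_
  rcases mem_insert.1 hμ with rfl | hμ
  · obtain ⟨v, hv, v0⟩ := H.isWt_iff.1 e0.isWt
    have e2 : R.vec (true, z) = R.vec (true, hi (by omega)) + R.vec (false, β) := by
      rw [hR.vec_true, hR.vec_true, hR.vec_false, ← ps_add]; congr 1; simp only [z, β, hi]; abel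
    obtain ⟨N, e3, e4⟩ := H.br _ _ _ e2
    refine ⟨_, hS, H.E (false, β) 1 v, by rw [sub_eq_add_neg, ← R.wt_false]; exact H.E1_w _ hv, fun e => ?_⟩
    have e5 := LinearMap.congr_fun e3 v
    rw [LinearMap.sub_apply, Module.End.mul_apply, Module.End.mul_apply, e, e0.E_eq_zero (by
      rw [hR.pair_tw]; simp only [hi, Function.comp_apply, sw_zero, Equiv.swap_apply_right]; omega) Nat.one_pos hv,
      map_zero, sub_self, LinearMap.smul_apply, eq_comm, smul_eq_zero] at e5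
    refine e5.elim (e4 ((hR.lace.nz_iff (Fact.out : p.Prime).ne_one _ _).2 ⟨_, e2⟩)) fun e6 => v0 ((hR.x H).ext e0 ?_ hv e6)
    rw [hR.pair_tw]
    simp only [z, Function.comp_apply, Equiv.swap_apply_right, Equiv.swap_apply_left]; omega
  · obtain ⟨a1, b, hb, a2⟩ := hA μ hμ
    obtain ⟨v, hv, v0⟩ := H.isWt_iff.1 a1.isWt
    exact ⟨b, hb, v, hv, fun e => v0 ((hR.x H).ext a1 a2 hv e)⟩

theorem adj_cL (hn : 2 ≤ n) {i : Fin n} (hi0 : (i : ℕ) = 0) (h : H.lam i ≠ 0) (h' : H.lam i.rev ≠ 0) {S : Finset (Pos n)}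
    (hS : hi (by omega) ∈ S) : n * ((S.image fun b => b.1.1).card + (S.image fun b => b.1.2).card) + 1 ≤
      H.cL S + (S.image fun b => b.1.1).card * (S.image fun b => b.1.2).card := by
  set A := S.image fun b => b.1.1
  set B := S.image fun b => b.1.2
  have hr : ((i.rev : Fin n) : ℕ) = n - (i + 1) := Fin.val_rev i
  obtain ⟨C, c1, c2⟩ := hR.exists_ext_pair H h h' (by omega) S
    ((B ×ˢ univ \ B.diag ∪ univ ×ˢ A \ A.diag).image fun z => ({z.1}, {z.2})) fun z hz => by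
      obtain ⟨w, hw, rfl⟩ := mem_image.1 hz
      simp only [mem_union, mem_sdiff, mem_product, mem_univ, mem_diag, and_true, true_and, not_and] at hw
      have e : w.1 ≠ w.2 := hw.elim (fun e => e.2 e.1) fun e e' => e.2 (e' ▸ e.1) e'
      refine ⟨⟨disjoint_singleton.2 e, by rw [hi0]; rfl, by rw [hi0]; rfl⟩, ?_⟩
      rcases hw with ⟨e1, -⟩ | ⟨e1, -⟩ <;> obtain ⟨b, hb, e2⟩ := mem_image.1 e1 <;> refine ⟨b, hb, ?_⟩ <;>
        have e3 := pos_lt b <;> simp only [ne_eq, Fin.ext_iff] at e e2 <;>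
        simp only [ind, Pi.sub_apply, mem_singleton, Fin.ext_iff] <;> omega
  have c3 := hR.cL_succ hn hS (by
    have := m0_add_le H i (a := 0) (b := o1 hn) (Nat.zero_le _) (by show _ < 1; omega)
    have := m0_add_le H i.rev (a := o1 hn) (b := Fin.last n) (by show 1 ≤ _; omega) i.rev.2
    omega) (by
    have := m0_add_le H i.rev (a := o1 hn) (b := Fin.last n) (by show 1 ≤ _; omega) i.rev.2
    omega) C c2
  rw [c1, card_pairs] at c3
  have d1 := le_card_sdiff B.diag (B ×ˢ univ)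
  have d2 := le_card_sdiff A.diag (univ ×ˢ A)
  have d3 := card_union_add_card_inter (B ×ˢ univ \ B.diag) (univ ×ˢ A \ A.diag)
  have d4 := card_le_card (show (B ×ˢ univ \ B.diag) ∩ (univ ×ˢ A \ A.diag) ⊆ B ×ˢ A from fun z hz =>
    mem_product.2 ⟨(mem_product.1 (mem_sdiff.1 (mem_inter.1 hz).1).1).1, (mem_product.1 (mem_sdiff.1 (mem_inter.1 hz).2).1).2⟩)
  rw [card_product, diag_card, card_univ, Fintype.card_fin] at d1 d2
  rw [card_product] at d4
  rw [mul_add, mul_one, Nat.add_sub_cancel] at d1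
  rw [add_mul, one_mul, Nat.add_sub_cancel] at d2
  nlinarith

theorem pair_theta {i : Fin n} (hi' : 2 * (i : ℕ) + 1 < n) (h : H.lam i ≠ 0) (h' : H.lam i.rev ≠ 0) {S : Finset (Pos n)}
    (hS : hi (by omega) ∈ S) : (n - 1).choose i * (n - i).choose (i + 1) ≤ H.cL S := by
  have h2 : (0 : Fin (n + 1)) ≠ Fin.last n := (hi (by omega : 1 ≤ n)).2.ne
  have h0 : ∀ T ∈ powersetCard i ((univ.erase (Fin.last n)).erase 0), Fin.last n ∉ T ∧ 0 ∉ T :=
    fun T hT => ⟨fun e => notMem_erase _ _ (mem_of_mem_erase ((mem_powersetCard.1 hT).1 e)),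
      fun e => notMem_erase _ _ ((mem_powersetCard.1 hT).1 e)⟩
  have h3 : ∀ T ∈ powersetCard i ((univ.erase (Fin.last n)).erase 0), (insert (Fin.last n) T).card = i + 1 :=
    fun T hT => by rw [card_insert_of_notMem (h0 T hT).1, (mem_powersetCard.1 hT).2]
  have h1 := hR.card_pair_le_cL H h h' hi' S (((powersetCard i ((univ.erase (Fin.last n)).erase 0)).sigma fun T =>
    powersetCard (i + 1) (insert (Fin.last n) T)ᶜ).image fun z => (insert (Fin.last n) z.1, z.2)) fun z hz => by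
      obtain ⟨⟨T, Z⟩, hw, rfl⟩ := mem_image.1 hz
      obtain ⟨hT, hZ⟩ := mem_sigma.1 hw
      obtain ⟨a1, a2⟩ := mem_powersetCard.1 hZ
      refine ⟨⟨disjoint_right.2 fun a ha => mem_compl.1 (a1 ha), h3 T hT, a2⟩, _, hS, ?_⟩
      have a3 : Fin.last n ∉ Z := fun e => mem_compl.1 (a1 e) (mem_insert_self _ _)
      simp only [hi, ind, Pi.sub_apply, mem_insert, h2, (h0 T hT).2, a3, true_or, or_self, if_true, if_false]
      omega
  rwa [card_image_of_injOn fun z hz w hw e => by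
      have e1 := congrArg (fun T => erase T (Fin.last n)) (congrArg Prod.fst e)
      simp only [erase_insert (h0 _ (mem_sigma.1 hz).1).1, erase_insert (h0 _ (mem_sigma.1 hw).1).1] at e1
      exact Sigma.ext e1 (heq_of_eq (congrArg Prod.snd e)),
    card_sigma, sum_congr rfl fun T hT => by rw [card_powersetCard, card_compl, h3 T hT, Fintype.card_fin], sum_const,
    card_powersetCard, card_erase_of_mem (mem_erase.2 ⟨h2, mem_univ _⟩), card_erase_of_mem (mem_univ _), card_univ,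
    Fintype.card_fin, Nat.add_sub_cancel, smul_eq_mul, Nat.add_sub_add_right] at h1

end IsA

theorem fix_two {R : RC (Fin 2) (Pos 2)} (hR : IsA R) {H : HW R p k L} [Fact p.Prime] [CharP k p] (hp : p = 2)
    (hl : H.lam = ![1, 1]) (g : H.GOp Fin.revPerm (fl 2)) :
    3 + finrank k (LinearMap.ker (g.g.toLinearMap - 1)) ≤ H.d ∧
      ∃ v, H.E (true, hi one_le_two) 1 v = 0 ∧ g.g v ≠ v := by
  have hm : m0 H = ![2, 1, 0] := by rw [m0, hl]; decide
  have ex : ∀ π : Equiv.Perm (Fin 3), H.Ext (tw (![2, 1, 0] ∘ π)) := fun π => hm ▸ hR.ext_perm H π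
  have e0 : H.Ext (tw ![2, 0, 1]) := (by decide : tw (![2, 1, 0] ∘ Equiv.swap (1 : Fin 3) 2) = tw ![2, 0, 1]) ▸ ex _
  have e1 : H.Ext (tw ![1, 2, 0]) := (by decide : tw (![2, 1, 0] ∘ Equiv.swap (0 : Fin 3) 1) = tw ![1, 2, 0]) ▸ ex _
  have e2 : H.Ext (tw ![0, 2, 1]) :=
    (by decide : tw (![2, 1, 0] ∘ (Equiv.swap 0 2 * Equiv.swap 1 2 : Equiv.Perm (Fin 3))) = tw ![0, 2, 1]) ▸ ex _
  have e3 : H.Ext (tw ![2, 1, 0]) := ex 1
  obtain ⟨v, hv, v0⟩ := H.isWt_iff.1 e0.isWt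
  obtain ⟨u, hu, u0⟩ := H.isWt_iff.1 e2.isWt
  let a : Pos 2 := ⟨(0, 1), by decide⟩
  let b : Pos 2 := ⟨(1, 2), by decide⟩
  have hv' : g.g v ∈ H.w (tw ![1, 2, 0]) :=
    (by decide : tw ![2, 0, 1] ∘ (Fin.revPerm : Equiv.Perm (Fin 2)).symm = tw ![1, 2, 0]) ▸ g.g_w _ _ hv
  have hh : H.E (false, a) 1 v ∈ H.w 0 := by
    have := H.E1_w (false, a) hv
    rwa [hR.wt_false, (by decide : tw ![2, 0, 1] + tw (ev a.1.2 - ev a.1.1) = 0)] at this
  have key : g.g (H.E (false, a) 1 v) ≠ H.E (false, a) 1 v := fun e => by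
    obtain ⟨ε, h1⟩ := g.g_E (false, a)
    obtain ⟨ε', h2⟩ := H.ef a
    have h3 := h2 _ v hv
    have two : ((2 : ℤ) : k) = 0 := by subst hp; exact_mod_cast CharP.cast_eq_zero k 2
    rw [e0.E_eq_zero (x := (true, a)) (by rw [hR.pair_tw]; decide) Nat.one_pos hv, map_zero, sub_zero, hR.pair_tw,
      (by decide : ![(2 : ℤ), 0, 1] a.1.1 - ![2, 0, 1] a.1.2 = 2), two, mul_zero, zero_smul, ← e, h1, pow_one, map_smul,
      (by decide : fl 2 a = b), smul_eq_zero] at h3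
    have h4 := LinearMap.congr_fun (H.br0 (true, a) (false, b) (by rw [hR.vec_true, hR.vec_false]; decide) (by
      rw [hR.vec_true, hR.vec_false, hR.isRt_add_iff (by decide) (by decide)]; decide)) (g.g v)
    rw [Module.End.mul_apply, Module.End.mul_apply, h3.resolve_left ε.ne_zero] at h4
    have h5 := H.E1_w (true, a) hv'
    rw [hR.wt_true, (by decide : tw ![1, 2, 0] + tw (ev a.1.1 - ev a.1.2) = tw ![2, 1, 0])] at h5
    have h6 := (hR.x H).ext e3 (x := (false, b)) (by rw [hR.pair_tw']; decide) h5 h4.symm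
    exact v0 (g.g.map_eq_zero_iff.1 ((hR.x H).ext e1 (x := (true, a)) (by rw [hR.pair_tw]; decide) hv' h6))
  refine ⟨fix_gen g ![tw ![2, 0, 1], tw ![0, 2, 1], 0] ![v, u, H.E (false, a) 1 v] (fun i => ?_) (by decide) fun i => ?_,
    v, e0.E_eq_zero (by rw [hR.pair_tw]; decide) Nat.one_pos hv, fun e => v0 ?_⟩
  · fin_cases i
    exacts [hv, hu, hh]
  · fin_cases i
    exacts [Or.inl ⟨v0, by decide⟩, Or.inl ⟨u0, by decide⟩, Or.inr ⟨key, rfl⟩]
  · rw [← H.pr_of_mem hv, ← e]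
    exact H.pr_of_ne hv' (by decide)

end Cfsg.Agent.TwoF.DC.TA
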