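import Cfsg.Agent.TwoF.DC.TA.Lv

/-!
# TwoF, defining characteristic, type `A_n` (5): offenders inside `K`, reduction to two small cases (helper97)
-/

set_option autoImplicit false
set_option linter.unusedSectionVars false

namespace Cfsg.Agent.TwoF.DC.TA

open Finset Module
open Cfsg.Agent.H356.TA (Pos)

theorem choose_le_mid {N a m : ℕ} (h1 : a ≤ m) (h2 : m + a ≤ N) : N.choose a ≤ N.choose m := by
  have key : ∀ m, a ≤ m → m ≤ N / 2 → N.choose a ≤ N.choose m := by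
    intro m h
    induction m, h using Nat.le_induction with
    | base => exact fun _ => le_rfl
    | succ m _ ih => exact fun h => (ih (by omega)).trans (Nat.choose_le_succ_of_lt_half_left (by omega))
  by_cases h : m ≤ N / 2
  · exact key m h1 h
  · rw [← Nat.choose_symm (show m ≤ N by omega)]
    exact key _ (by omega) (by omega)

theorem two_choose_two (N : ℕ) : 2 * (N + 1).choose 2 = (N + 1) * N := by
  induction N with
  | zero => rfl
  | succ N ih => rw [Nat.choose_succ_succ' (N + 1) 1, Nat.choose_one_right, mul_add, ih]; ring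

variable {n : ℕ}

/-- a fundamental weight -/
def Sg (l : Fin n → ℕ) (t : ℕ) : Prop := ∃ i : Fin n, (i : ℕ) = t ∧ l = Pi.single i 1

theorem single_rev (i : Fin n) :
    (Pi.single i 1 : Fin n → ℕ) ∘ (Fin.revPerm : Equiv.Perm (Fin n)).symm = Pi.single i.rev 1 := by
  funext j
  simp only [Function.comp_apply, Pi.single_apply, Fin.revPerm_symm, Fin.revPerm_apply, Fin.rev_eq_iff]

theorem Sg.rev {l : Fin n → ℕ} {t : ℕ} (h : Sg l t) : Sg (l ∘ (Fin.revPerm : Equiv.Perm (Fin n)).symm) (n - 1 - t) := by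
  obtain ⟨i, rfl, rfl⟩ := h
  exact ⟨i.rev, by rw [Fin.val_rev]; omega, single_rev i⟩

theorem Sg.lv {l : Fin n → ℕ} {t : ℕ} (h : Sg l t) (κ : Fin n) :
    lv l κ = min (min (t + 1) (κ + 1)) (min (n - t) (n - κ)) := by
  obtain ⟨i, rfl, rfl⟩ := h
  exact lv_single i κ

theorem Sg.ne {l : Fin n → ℕ} {t : ℕ} (h : Sg l t) : ∃ i : Fin n, (i : ℕ) = t ∧ l i ≠ 0 := by
  obtain ⟨i, rfl, rfl⟩ := h
  exact ⟨i, rfl, by simp⟩

theorem m0_adj {R : RC (Fin n) (Pos n)} {p : ℕ} {k L : Type} [Field k] [AddCommGroup L] [Module k L] (H : HW R p k L)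
    {i : Fin n} (hi : (i : ℕ) = 0) (h : H.lam = Pi.single i 1 + Pi.single i.rev 1) : Adj (m0 H) := by
  have h1 : tw (m0 H - (ev 0 - ev (Fin.last n))) = 0 := by
    rw [tw_sub, tw_m0]
    funext j
    have := j.2
    simp only [HW.lz, h, tw, Pi.sub_apply, Pi.add_apply, Pi.single_apply, ev_apply, Fin.ext_iff, Fin.val_rev,
      Fin.val_castSucc, Fin.val_succ, Fin.val_zero, Fin.val_last, Pi.zero_apply, Nat.cast_add, Nat.cast_ite,
      Nat.cast_one, Nat.cast_zero]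
    omega
  exact ⟨(m0 H - (ev 0 - ev (Fin.last n)) : Fin (n + 1) → ℤ) 0, funext fun a => by
    rw [Pi.add_apply, ← const_of_tw h1 a, Pi.sub_apply (m0 H), sub_add_cancel]⟩

namespace IsA

variable {R : RC (Fin n) (Pos n)} (hR : IsA R) {p : ℕ}
include hR

theorem exists_MM (hp : p ≠ 1) {S : Finset (Pos n)} (hS : S.Nonempty) (hA : R.Ab p S) (hI : R.Idl p S) :
    ∃ κ, S ⊆ MM κ := by
  obtain ⟨b0, h0, h1⟩ := S.exists_max_image (fun b => (b.1.1 : ℕ)) hS
  have h2 := pos_lt b0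
  have h3 := b0.1.2.2
  refine ⟨⟨b0.1.1, by omega⟩, fun b hb => mem_MM.2 ⟨h1 b hb, ?_⟩⟩
  by_contra h4
  have h5 : b.1.2 ≤ b0.1.1 := not_lt.1 h4
  exact (hR.ab_iff hp S).1 hA ⟨(b.1.1, b0.1.1), b.2.trans_le h5⟩ (hR.idl_mem hp hI hb le_rfl h5) b0 h0 rfl

theorem s_val {i : Fin n} {b : Pos n} (h : b ≠ zA i) :
    ((R.s i b).1.1 : ℕ) = sp i b.1.1 ∧ ((R.s i b).1.2 : ℕ) = sp i b.1.2 := by
  rw [hR.s_eq h, sA_val h]; exact ⟨rfl, rfl⟩

theorem eq_MM (hp : p ≠ 1) {κ : Fin n} {S : Finset (Pos n)} (h1 : S ⊆ MM κ) (hS : S.Nonempty) (hI : R.Idl p S)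
    (hs : ∀ j, R.zi j ∉ MM κ → (∀ b ∈ MM κ, R.s j b ∈ MM κ) → ∀ b ∈ S, R.s j b ∈ S) : S = MM κ := by
  have ne : ∀ j : Fin n, (j : ℕ) ≠ κ → ∀ b ∈ MM κ, b ≠ zA j := by
    rintro j hj b hb rfl
    rw [mem_MM, zA_fst, zA_snd] at hb; omega
  have st : ∀ j : Fin n, (j : ℕ) ≠ κ → ∀ b ∈ S, R.s j b ∈ S := fun j hj => hs j
    (fun e => ne j hj _ e (by rw [hR.zi])) fun b hb => by
      obtain ⟨e1, e2⟩ := hR.s_val (ne j hj b hb)
      rw [mem_MM] at hb
      rw [mem_MM, e1, e2, sp_val, sp_val]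
      split_ifs <;> omega
  obtain ⟨b, hb, hm⟩ := S.exists_min_image (fun b => (b.1.2 : ℕ) - b.1.1) hS
  have h2 := mem_MM.1 (h1 hb)
  have h3 := b.1.2.2
  have h4 : (b.1.1 : ℕ) = κ := by
    by_contra h
    have h5 := hm _ (st ⟨b.1.1, by omega⟩ h b hb)
    obtain ⟨e1, e2⟩ := hR.s_val (ne ⟨b.1.1, by omega⟩ h b (h1 hb))
    rw [e1, e2, sp_val, sp_val] at h5
    simp only at h5
    split_ifs at h5 <;> omega
  have h5 : (b.1.2 : ℕ) = κ + 1 := by
    by_contra h
    have h' : (b.1.2 : ℕ) - 1 ≠ κ := by omega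
    have h5 := hm _ (st ⟨b.1.2 - 1, by omega⟩ h' b hb)
    obtain ⟨e1, e2⟩ := hR.s_val (ne ⟨b.1.2 - 1, by omega⟩ h' b (h1 hb))
    rw [e1, e2, sp_val, sp_val] at h5
    simp only at h5
    split_ifs at h5 <;> omega
  refine Subset.antisymm h1 fun b' hb' => ?_
  rw [mem_MM] at hb'
  exact hR.idl_mem hp hI hb (by rw [Fin.le_def]; omega) (by rw [Fin.le_def]; omega)

theorem hv_MM {κ : Fin n} {b : Pos n} (h : b ∈ MM κ) : 1 ≤ R.hv (Pi.single κ 1) b := by
  obtain ⟨j, rfl, h1⟩ := (hR.mem_MM' κ b).1 h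
  rw [R.hv_single]; omega

variable {k L : Type} [Field k] [AddCommGroup L] [Module k L] (H : HW R p k L)

theorem lev_MM (κ : Fin n) {t : ℤ} (h : (lv H.lam κ : ℤ) < t) (μ : Fin n → ℤ) (hμ : H.IsWt μ) :
    0 ≤ H.lev (Pi.single κ 1) μ ∧ H.lev (Pi.single κ 1) μ < 0 + t * 1 := by
  rw [H.lev_single]
  have := hR.dep_le_lv H hμ κ
  exact ⟨H.dep_nonneg hμ κ, by omega⟩

theorem cG_nat (h : Sg H.lam 0) (S : Finset (Pos n)) : H.cG S ≤ (S.image fun b => b.1.2).card := by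
  obtain ⟨i, hi, h⟩ := h
  refine (hR.cG_single_le H h S ((S.image fun b => b.1.2).image singleton) fun T h1 ⟨b, hb, _, h2⟩ => ?_).trans
    card_image_le
  obtain ⟨a, rfl⟩ := card_eq_one.1 (h1.trans (by omega))
  exact mem_image.2 ⟨_, mem_image_of_mem _ hb, by rw [mem_singleton.1 h2]⟩

theorem cG_dual (h : Sg H.lam (n - 1)) (S : Finset (Pos n)) : H.cG S ≤ (S.image fun b => b.1.1).card := by
  obtain ⟨i, hi, h⟩ := h
  refine (hR.cG_single_le H h S ((S.image fun b => b.1.1).image univ.erase) fun T h1 ⟨b, hb, h2, _⟩ => ?_).trans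
    card_image_le
  refine mem_image.2 ⟨_, mem_image_of_mem _ hb, (eq_of_subset_of_card_le (fun a ha => ?_) ?_).symm⟩
  · exact mem_erase.2 ⟨fun e => h2 (e ▸ ha), mem_univ _⟩
  · rw [card_erase_of_mem (mem_univ _), card_univ, Fintype.card_fin]; omega

variable [Fact p.Prime] [CharP k p]

theorem nat_le_cL {i : Fin n} (hi : (i : ℕ) = 0) (h : H.lam i ≠ 0) (S : Finset (Pos n)) :
    (S.image fun b => b.1.2).card ≤ H.cL S := by
  rw [← card_image_of_injective _ singleton_injective]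
  refine hR.card_le_cL H h S _ fun T hT => ?_
  obtain ⟨a, ha, rfl⟩ := mem_image.1 hT
  obtain ⟨b, hb, rfl⟩ := mem_image.1 ha
  exact ⟨by rw [card_singleton]; omega, b, hb, notMem_singleton.2 b.2.ne, mem_singleton_self _⟩

theorem dual_le_cL {i : Fin n} (hi : (i : ℕ) = n - 1) (h : H.lam i ≠ 0) (S : Finset (Pos n)) :
    (S.image fun b => b.1.1).card ≤ H.cL S := by
  rw [← card_image_of_injOn (f := univ.erase) fun a _ b _ e => (erase_inj univ (mem_univ a)).1 e]
  refine hR.card_le_cL H h S _ fun T hT => ?_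
  obtain ⟨a, ha, rfl⟩ := mem_image.1 hT
  obtain ⟨b, hb, rfl⟩ := mem_image.1 ha
  exact ⟨by rw [card_erase_of_mem (mem_univ _), card_univ, Fintype.card_fin]; omega, b, hb, notMem_erase _ _,
    mem_erase.2 ⟨b.2.ne', mem_univ _⟩⟩

theorem choose_lo {i κ : Fin n} (h : H.lam i ≠ 0) (hκ : (κ : ℕ) ≤ i) : n.choose (i + 1) ≤ H.cL (MM κ) := by
  have h1 := hR.card_le_cL H h (MM κ) (powersetCard (i + 1) (univ.erase 0)) fun T hT => by
    obtain ⟨h2, h3⟩ := mem_powersetCard.1 hT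
    have h0 : 0 ∉ T := fun e => notMem_erase _ _ (h2 e)
    obtain ⟨x, hx, h4⟩ := exists_mem_notMem_of_card_lt_card (s := (ini n (κ + 1)).erase 0) (t := T)
      (by rw [card_erase_of_mem (mem_ini.2 (by simp)), card_ini (by omega)]; omega)
    have h5 : x ≠ 0 := fun e => h0 (e ▸ hx)
    rw [mem_erase, mem_ini] at h4
    exact ⟨h3, ⟨(0, x), Fin.pos_iff_ne_zero.2 h5⟩, mem_MM.2 ⟨Nat.zero_le _, by
      by_contra e; exact h4 ⟨h5, Nat.lt_succ_of_le (not_lt.1 e)⟩⟩, h0, hx⟩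
  rwa [card_powersetCard, card_erase_of_mem (mem_univ _), card_univ, Fintype.card_fin, Nat.add_sub_cancel] at h1

theorem choose_hi {i κ : Fin n} (h : H.lam i ≠ 0) (hκ : (i : ℕ) ≤ κ) : n.choose i ≤ H.cL (MM κ) := by
  have h0 : ∀ T ∈ powersetCard i (univ.erase (Fin.last n)), Fin.last n ∉ T :=
    fun T hT e => notMem_erase _ _ ((mem_powersetCard.1 hT).1 e)
  have h1 := hR.card_le_cL H h (MM κ) ((powersetCard i (univ.erase (Fin.last n))).image (insert (Fin.last n)))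
    fun T' hT' => by
      obtain ⟨T, hT, rfl⟩ := mem_image.1 hT'
      have h3 := (mem_powersetCard.1 hT).2
      obtain ⟨x, hx, h4⟩ := exists_mem_notMem_of_card_lt_card (s := T) (t := ini n (κ + 1))
        (by rw [card_ini (by omega)]; omega)
      rw [mem_ini] at hx
      have h5 : x < Fin.last n := by rw [Fin.lt_def, Fin.val_last]; omega
      exact ⟨by rw [card_insert_of_notMem (h0 T hT), h3], ⟨(x, Fin.last n), h5⟩,
        mem_MM.2 ⟨Nat.le_of_lt_succ hx, κ.2⟩, fun e => (mem_insert.1 e).elim h5.ne h4, mem_insert_self _ _⟩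
  rwa [card_image_of_injOn fun T hT T' hT' e => by rw [← erase_insert (h0 T hT), e, erase_insert (h0 T' hT')],
    card_powersetCard, card_erase_of_mem (mem_univ _), card_univ, Fintype.card_fin, Nat.add_sub_cancel] at h1

theorem choose_mid {i : Fin n} (h : H.lam i ≠ 0) (hi : 2 * (i : ℕ) + 1 = n) (κ : Fin n) : n.choose i ≤ H.cL (MM κ) := by
  rcases le_total (κ : ℕ) i with h1 | h1
  · rw [← Nat.choose_symm_of_eq_add (show n = i + 1 + i by omega)]; exact hR.choose_lo H h h1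
  · exact hR.choose_hi H h h1

/-- invariant highest weights, unsymmetric parabolic -/
theorem tw_inv (hn : 2 ≤ n) (h : H.lam ∘ (Fin.revPerm : Equiv.Perm (Fin n)).symm = H.lam) {κ : Fin n}
    (hκ : 2 * (κ : ℕ) + 1 ≠ n) (hc : H.cL (MM κ) ≤ 2 * ((κ + 1) * (n - κ))) :
    (n = 3 ∧ Sg H.lam 1) ∨ (n = 5 ∧ Sg H.lam 2) := by
  have hκn := κ.2
  have h' : ∀ i : Fin n, H.lam i.rev = H.lam i := fun i => congrFun h i
  have l2 : lv H.lam κ ≤ 2 := by
    by_contra e
    have := hR.cL_three H (κ := κ) (by omega); omega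
  have fin : ∀ i j : Fin n, 1 ≤ (i : ℕ) → (i : ℕ) ≤ j → (j : ℕ) + 2 ≤ n → i + j + 1 = n → ∀ l' : Fin n → ℕ,
      H.lam = Pi.single i 1 + (Pi.single j 1 + l') →
      (∀ a b : Fin (n + 1), (a : ℕ) ≤ i → (j : ℕ) < b → m0 H b + 2 ≤ m0 H a) → False := by
    intro i j h1 h2 h3 h4 l' h5 h6
    have h7 := l2
    rw [h5, lv_add, lv_add, lv_single, lv_single, mn, mn] at h7
    have h8 := hR.le_cL_MM H (lb_end (m0_anti H) κ (by
      rw [lvl_m0, h5, lv_add, lv_add, lv_single, lv_single]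
      have := mn_pos i κ; have := mn_pos j κ; omega) (by omega) (a := ⟨1, by omega⟩) (b := ⟨n - 1, by omega⟩) le_rfl
      (by simp only; omega) (h6 _ _ h1 (by simp only; omega)))
    omega
  by_cases hA : ∃ i : Fin n, H.lam i ≠ 0 ∧ 2 * (i : ℕ) + 1 < n
  · exfalso
    obtain ⟨i, h1, h2⟩ := hA
    have hr : ((i.rev : Fin n) : ℕ) = n - (i + 1) := Fin.val_rev i
    obtain ⟨l1, e1⟩ := exists_add_single h1
    obtain ⟨l2', e2⟩ := exists_add_single (l := l1) (i := i.rev) (by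
      have h3 := h' i
      have h4 := congrFun e1 i.rev
      rw [Pi.add_apply, Pi.single_eq_of_ne (fun e => by rw [Fin.ext_iff] at e; omega)] at h4
      omega)
    rw [e2] at e1
    by_cases h0 : (i : ℕ) = 0
    · have h3 := l2
      rw [e1, lv_add, lv_add, lv_single, lv_single] at h3
      have h4 := mn_pos i κ
      have h5 := mn_pos i.rev κ
      rw [eq_zero_of_lv (l := l2') (κ := κ) (by omega), add_zero] at e1
      have h6 := hR.le_cL_MM H (lb_adj (m0_adj H h0 e1) κ)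
      have h7 : (n + 1) * n + 1 ≤ 3 * ((κ + 1) * (n - κ)) := by omega
      obtain ⟨t, ht⟩ : ∃ t, n = κ + 1 + t := ⟨n - κ - 1, by omega⟩
      rw [show n - κ = t + 1 by omega] at h7
      generalize (κ : ℕ) = s at ht h7 hκ
      subst ht
      rcases Nat.lt_or_gt_of_ne (show s ≠ t by omega) with h8 | h8
      · obtain ⟨u, rfl⟩ := Nat.exists_eq_add_of_lt h8
        nlinarith [sq_nonneg ((s : ℤ) - 1), sq_nonneg ((s : ℤ) + u)]
      · obtain ⟨u, rfl⟩ := Nat.exists_eq_add_of_lt h8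
        nlinarith [sq_nonneg ((t : ℤ) - 1), sq_nonneg ((t : ℤ) + u)]
    · refine fin i i.rev (by omega) (by omega) (by omega) (by omega) l2' e1 fun a b ha hb => ?_
      have h3 := m0_add_le H i ha (b := i.succ) (by simp)
      have h4 := m0_add_le H i.rev (a := i.succ) (by rw [Fin.val_succ]; omega) hb
      have h5 := h' i
      omega
  have hB : ∀ j : Fin n, H.lam j ≠ 0 → 2 * (j : ℕ) + 1 = n := fun j hj => by
    have h1 : ¬ 2 * (j : ℕ) + 1 < n := fun e => hA ⟨j, hj, e⟩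
    have h2 : ¬ 2 * ((j.rev : Fin n) : ℕ) + 1 < n := fun e => hA ⟨j.rev, by rwa [h'], e⟩
    rw [Fin.val_rev] at h2
    omega
  obtain ⟨i, h1⟩ := H.exists_lam_pos
  have h2 := hB i h1.ne'
  obtain ⟨l1, e1⟩ := exists_add_single h1.ne'
  by_cases h3 : l1 i = 0
  · have h4 : l1 = 0 := funext fun j => by
      by_contra e
      have h5 := congrFun e1 j
      have h6 : j = i := Fin.ext (by have := hB j (by rw [h5, Pi.add_apply]; rw [Pi.zero_apply] at e; omega); omega)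
      exact e (h6 ▸ h3)
    rw [h4, add_zero] at e1
    have h5 := hR.choose_mid H h1.ne' h2 κ
    rw [e1, lv_single, mn] at l2
    by_cases h6 : 3 ≤ (i : ℕ)
    · exfalso
      have h7 : (κ + 1) * (n - κ) ≤ 4 * i := by
        rcases (by omega : (κ : ℕ) = 0 ∨ (κ : ℕ) = 1 ∨ n - κ = 1 ∨ n - κ = 2) with e | e | e | e <;> rw [e] <;> omega
      by_cases h8 : (i : ℕ) = 3
      · have : n.choose i = 35 := (congrArg₂ Nat.choose (show n = 7 by omega) h8).trans rfl
        omega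
      · have h9 := choose_le_mid (N := n) (a := 2) (m := i) (by omega) (by omega)
        have h10 := two_choose_two (2 * i)
        rw [h2] at h10
        have h11 : 9 * (2 * i) ≤ n * (2 * i) := Nat.mul_le_mul_right _ (by omega)
        omega
    · rcases (by omega : (i : ℕ) = 1 ∨ (i : ℕ) = 2) with e | e
      · exact Or.inl ⟨by omega, i, e, e1⟩
      · exact Or.inr ⟨by omega, i, e, e1⟩
  · exfalso
    obtain ⟨l2', e2⟩ := exists_add_single h3
    rw [e2] at e1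
    refine fin i i (by omega) le_rfl (by omega) (by omega) l2' e1 fun a b ha hb => ?_
    have h4 := m0_add_le H i ha hb
    have h5 := congrFun e1 i
    simp only [Pi.add_apply, Pi.single_eq_same] at h5
    omega

/-- highest weights which are not invariant -/
theorem tw_non {L' : Type} [AddCommGroup L'] [Module k L'] (H' : HW R p k L')
    (h : H'.lam = H.lam ∘ (Fin.revPerm : Equiv.Perm (Fin n)).symm) (h' : H'.lam ≠ H.lam) {κ : Fin n}
    (hc : H.cL (MM κ) + H'.cL (MM κ) ≤ 2 * ((κ + 1) * (n - κ))) : Sg H.lam 0 ∨ Sg H.lam (n - 1) := by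
  have hκn := κ.2
  have l1 : lv H.lam κ ≤ 1 := by
    by_contra e
    have := hR.cL_two H (κ := κ) (by omega)
    have := hR.cL_two H' (κ := κ) (by rw [h, lv_rev]; omega)
    omega
  obtain ⟨i, h1⟩ := H.exists_lam_pos
  have hin := i.2
  have e1 := single_of_lv h1.ne' (l1.trans (mn_pos i κ))
  by_cases h2 : (i : ℕ) = 0
  · exact Or.inl ⟨i, h2, e1⟩
  by_cases h3 : (i : ℕ) = n - 1
  · exact Or.inr ⟨i, h3, e1⟩
  exfalso
  have hr : ((i.rev : Fin n) : ℕ) = n - (i + 1) := Fin.val_rev i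
  rw [e1, single_rev] at h
  have h4 : H'.lam i.rev ≠ 0 := by rw [h]; simp
  have h5 : 2 * (i : ℕ) + 1 ≠ n := fun e => h' (by rw [h, e1, show i.rev = i from Fin.ext (by omega)])
  rw [e1, lv_single, mn] at l1
  have h6 : (n + 1).choose (i + 1) ≤ 2 * n := by
    rw [Nat.choose_succ_succ']
    rcases (by omega : (κ : ℕ) = 0 ∨ n - κ = 1) with e | e
    · have a1 := hR.choose_lo H h1.ne' (κ := κ) (by omega)
      have a2 := hR.choose_lo H' h4 (κ := κ) (by omega)
      rw [Nat.choose_symm_of_eq_add (show n = i.rev + 1 + i by omega)] at a2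
      rw [e] at hc; omega
    · have a1 := hR.choose_hi H h1.ne' (κ := κ) (by omega)
      have a2 := hR.choose_hi H' h4 (κ := κ) (by omega)
      rw [Nat.choose_symm_of_eq_add (show n = i.rev + (i + 1) by omega)] at a2
      rw [e] at hc; omega
  have h7 := choose_le_mid (N := n + 1) (a := 2) (m := i + 1) (by omega) (by omega)
  have h8 := two_choose_two n
  have h9 : 5 * n ≤ (n + 1) * n := Nat.mul_le_mul_right _ (by omega)
  omega

end IsA

section fam

variable {p : ℕ} {k G : Type} [Field k] [Group G] {D : RDat p (Fin n) (Pos n) k G} {σ : Equiv.Perm (Fin n)}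
  (F : Fam D σ)

theorem sum_le_val (S : Finset (Pos n)) : ∑ j, 2 * (F.H j).cL S ≤ F.val S := sum_le_sum fun j _ => by
  split_ifs
  · have := (F.H j).cL_lt_d S
    rw [mul_comm]; exact Nat.mul_le_mul_left _ (by omega)
  · exact le_rfl

theorem dbl_le_val (S : Finset (Pos n)) {j : F.J} (h : F.dbl j = true) :
    (F.H j).cL S * ((F.H j).cL S + 2) ≤ F.val S := by
  have h1 := single_le_sum (f := fun j => if F.dbl j then (F.H j).cL S * (2 * (F.H j).d - (F.H j).cL S) else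
    2 * (F.H j).cL S) (fun _ _ => Nat.zero_le _) (mem_univ j)
  have := (F.H j).cL_lt_d S
  rw [if_pos h] at h1
  exact (Nat.mul_le_mul_left _ (by omega)).trans h1

variable (hR : IsA D.R)
include hR

theorem commute_MM {κ : Fin n} {b b' : Pos n} (hb : b ∈ MM κ) (hb' : b' ∈ MM κ) (s t : k) :
    Commute (D.z b s) (D.z b' t) := by
  have h := D.cm b b' s t
  rw [show {g | ∃ a u, (∃ m n : ℕ, 0 < m ∧ 0 < n ∧ D.R.cf a = m • D.R.cf b + n • D.R.cf b') ∧ g = D.z a u} = ∅ from ?_,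
    Subgroup.closure_empty, Subgroup.mem_bot, mul_inv_eq_one, mul_inv_eq_iff_eq_mul] at h
  · exact h
  refine Set.eq_empty_of_forall_notMem ?_
  rintro g ⟨a, u, ⟨m, m', h1, h2, h3⟩, -⟩
  have h4 := congrFun h3 κ
  rw [mem_MM] at hb hb'
  simp only [hR.cf, Pi.add_apply, Pi.smul_apply, smul_eq_mul, cfA, if_pos hb, if_pos hb'] at h4
  split_ifs at h4 <;> omega

theorem good_of {σ' : Equiv.Perm (Pos n)} {κ : Fin n} {S : Finset (Pos n)} (h1 : S ⊆ MM κ) (h2 : S.Nonempty)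
    (h3 : ∀ b ∈ S, σ' b ∈ S) (h4 : ∀ j, lv (F.H j).lam κ ≤ 2) (h5 : ∀ j, F.dbl j = true → lv (F.H j).lam κ ≤ 1)
    (h6 : F.valG S ≤ 4 * S.card) : F.Good σ' :=
  ⟨S, h2, h3, fun _ hb _ hb' => commute_MM hR (h1 hb) (h1 hb'),
    fun j _ => (F.H j).cubic_of_lev S _ (fun _ hb => hR.hv_MM (h1 hb))
      (hR.lev_MM (F.H j) κ (by have := h4 j; omega)),
    fun j hj => (F.H j).quad_of_lev S _ (fun _ hb => hR.hv_MM (h1 hb))
      (hR.lev_MM (F.H j) κ (by have := h5 j hj; omega)), h6⟩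

theorem valG_MM (κ : Fin n) : F.valG (MM κ) = F.val (MM κ) :=
  sum_congr rfl fun j _ => by rw [(F.H j).cG_smith (hR.mem_MM' κ)]

omit hR in
theorem MM_nonempty (κ : Fin n) : (MM κ).Nonempty := ⟨zA κ, mem_MM.2 ⟨le_rfl, Nat.lt_succ_self _⟩⟩

variable [Fact p.Prime] [CharP k p]

theorem good_MM {σ' : Equiv.Perm (Pos n)} {κ : Fin n} (h3 : ∀ b ∈ MM κ, σ' b ∈ MM κ)
    (h : F.val (MM κ) ≤ 4 * (MM κ).card) : F.Good σ' := by
  refine good_of F hR subset_rfl (MM_nonempty κ) h3 (fun j => ?_) (fun j hj => ?_) (by rwa [valG_MM F hR])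
  · by_contra e
    have h1 := hR.cL_three (F.H j) (κ := κ) (by omega)
    have h2 := (single_le_sum (f := fun j => 2 * (F.H j).cL (MM κ)) (fun _ _ => Nat.zero_le _) (mem_univ j)).trans
      (sum_le_val F _)
    rw [card_MM] at h; omega
  · by_contra e
    have h1 := hR.cL_two (F.H j) (κ := κ) (by omega)
    have h2 := dbl_le_val F (MM κ) hj
    rw [card_MM] at h
    have h4 := Nat.mul_le_mul h1 (Nat.add_le_add_right h1 2)
    nlinarith [sq_nonneg ((((κ : ℕ) + 1) * (n - κ) : ℕ) : ℤ)]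

theorem exists_val (hT : F.Top) {S : Finset (Pos n)} (hS : S.Nonempty) (hA : D.R.Ab p S) (hI : D.R.Idl p S)
    (h : F.val S ≤ 4 * S.card) : ∃ κ, F.val (MM κ) ≤ 4 * (MM κ).card := by
  have hp := (Fact.out : p.Prime).ne_one
  obtain ⟨κ, h1⟩ := hR.exists_MM hp hS hA hI
  obtain ⟨S', a1, a2, a3, a4, a5⟩ := hT (MM κ) (hR.up_MM κ) ⟨S, h1, hS, h⟩
  exact ⟨κ, hR.eq_MM hp a1 a2 a3 a5 ▸ a4⟩

/-- only natural modules -/
theorem good_nat (hn : 1 ≤ n) (hd : ∀ j, F.dbl j = false) (h : ∀ j, Sg (F.H j).lam 0 ∨ Sg (F.H j).lam (n - 1))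
    (hJ : Fintype.card F.J ≤ n) : F.Good (fl n) := by
  let S : Finset (Pos n) := univ.filter fun b => (b.1.1 : ℕ) < (n + 1) / 2 ∧ n + 1 - (n + 1) / 2 ≤ (b.1.2 : ℕ)
  have hS : ∀ b, b ∈ S ↔ (b.1.1 : ℕ) < (n + 1) / 2 ∧ n + 1 - (n + 1) / 2 ≤ (b.1.2 : ℕ) := fun b => by simp [S]
  have hc : S.card = (n + 1) / 2 * ((n + 1) / 2) := by
    rw [card_box (by omega) (by omega) hS]; congr 1; omega
  refine good_of F hR (κ := ⟨(n + 1) / 2 - 1, by omega⟩) (S := S) (fun b hb => ?_)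
    ⟨hi hn, (hS _).2 ⟨by show 0 < _; omega, by show _ ≤ n; omega⟩⟩ (fun b hb => ?_) (fun j => ?_)
    (fun j hj => by rw [hd j] at hj; cases hj) ?_
  · rw [hS] at hb; rw [mem_MM]; simp only; omega
  · rw [hS] at hb ⊢; rw [fl_fst, fl_snd]; omega
  · rcases h j with e | e <;> rw [e.lv] <;> omega
  · have h1 : ∀ j, (F.H j).cG S ≤ (n + 1) / 2 := fun j => by
      rcases h j with e | e
      · refine (hR.cG_nat _ e S).trans ((card_le_card (t := fns n (n + 1 - (n + 1) / 2)) fun a ha => ?_).trans ?_)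
        · obtain ⟨b, hb, rfl⟩ := mem_image.1 ha
          exact mem_fns.2 ((hS b).1 hb).2
        · rw [card_fns (by omega)]; omega
      · refine (hR.cG_dual _ e S).trans ((card_le_card (t := ini n ((n + 1) / 2)) fun a ha => ?_).trans ?_)
        · obtain ⟨b, hb, rfl⟩ := mem_image.1 ha
          exact mem_ini.2 ((hS b).1 hb).1
        · rw [card_ini (by omega)]
    refine (sum_le_card_nsmul _ _ (2 * ((n + 1) / 2)) fun j _ => ?_).trans ?_
    · rw [hd j, if_neg (by simp)]; have := h1 j; omega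
    · rw [card_univ, smul_eq_mul, hc]
      have h2 : Fintype.card F.J ≤ 2 * ((n + 1) / 2) := by omega
      nlinarith

theorem image_fst_MM (κ : Fin n) : ((MM κ).image fun b => b.1.1).card = κ + 1 := by
  rw [← card_ini (n := n) (s := κ + 1) (by omega)]
  congr 1
  ext a
  rw [mem_image, mem_ini]
  refine ⟨fun ⟨b, hb, e⟩ => e ▸ Nat.lt_succ_of_le (mem_MM.1 hb).1, fun ha => ⟨⟨(a, Fin.last n), ?_⟩, ?_, rfl⟩⟩
  · rw [Fin.lt_def, Fin.val_last]; simp only; omega
  · exact mem_MM.2 ⟨Nat.le_of_lt_succ ha, κ.2⟩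

theorem image_snd_MM (κ : Fin n) : ((MM κ).image fun b => b.1.2).card = n - κ := by
  rw [show n - κ = n + 1 - (κ + 1) by omega, ← card_fns (n := n) (s := κ + 1) (by omega)]
  congr 1
  ext a
  rw [mem_image, mem_fns]
  refine ⟨fun ⟨b, hb, e⟩ => e ▸ (mem_MM.1 hb).2, fun ha => ⟨⟨(0, a), ?_⟩, ?_, rfl⟩⟩
  · rw [Fin.lt_def]; simp only [Fin.val_zero]; omega
  · exact mem_MM.2 ⟨Nat.zero_le _, ha⟩

/-- the twisted case -/
theorem ct_tw (hn : 2 ≤ n) (hσ : σ = Fin.revPerm) {κ : Fin n} (h : F.val (MM κ) ≤ 4 * (MM κ).card) :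
    F.Good (fl n) ∨ ((∀ j, F.dbl j = false) ∧
      ((n = 5 ∧ ∃ j, Sg (F.H j).lam 2) ∨ (n = 3 ∧ Fintype.card F.J = 2 ∧ ∀ j, Sg (F.H j).lam 1))) := by
  classical
  subst hσ
  have hκn := κ.2
  by_cases hκ : 2 * (κ : ℕ) + 1 = n
  · exact Or.inl (good_MM F hR (fun b hb => by rw [mem_MM] at hb ⊢; rw [fl_fst, fl_snd]; omega) h)
  rw [card_MM] at h
  have hs := (sum_le_val F _).trans h
  have one : ∀ j, (F.H j).cL (MM κ) ≤ 2 * ((κ + 1) * (n - κ)) := fun j => by
    have := single_le_sum (f := fun j => 2 * (F.H j).cL (MM κ)) (fun _ _ => Nat.zero_le _) (mem_univ j); omega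
  have hd : ∀ j, F.dbl j = false := fun j => by
    by_contra e
    have e' : F.dbl j = true := by simpa using e
    have h1 := dbl_le_val F (MM κ) e'
    have h2 : ∀ i : Fin n, (F.H j).lam i ≠ 0 → 2 * (i : ℕ) + 1 = n → n.choose i * (n.choose i + 2) ≤ 4 * ((κ + 1) * (n - κ)) :=
      fun i a1 a2 => by
        have h2 := hR.choose_mid _ a1 a2 κ
        exact (Nat.mul_le_mul h2 (Nat.add_le_add_right h2 2)).trans (h1.trans h)
    rcases hR.tw_inv _ hn (F.dbl_σ j e') hκ (one j) with ⟨rfl, a⟩ | ⟨rfl, a⟩ <;> obtain ⟨i, a1, a2⟩ := a.ne <;>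
      have h3 := h2 i a2 (by omega) <;> rw [a1] at h3 <;> revert h3 hκ <;> clear * - <;> revert κ <;> decide
  have nat2 : ∀ j, Sg (F.H j).lam 0 ∨ Sg (F.H j).lam (n - 1) →
      n + 1 ≤ (F.H j).cL (MM κ) + (F.H (F.π j)).cL (MM κ) := by
    intro j hj
    rcases hj with e | e <;> obtain ⟨i, a1, a2⟩ := e.ne <;> obtain ⟨i', b1, b2⟩ := e.rev.ne <;> rw [← F.lam_π] at b2
    · have c1 := hR.nat_le_cL _ a1 a2 (MM κ)
      have c2 := hR.dual_le_cL _ b1 b2 (MM κ)
      rw [image_snd_MM hR] at c1; rw [image_fst_MM hR] at c2; omega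
    · have c1 := hR.dual_le_cL _ a1 a2 (MM κ)
      have c2 := hR.nat_le_cL _ (by omega) b2 (MM κ)
      rw [image_snd_MM hR] at c2; rw [image_fst_MM hR] at c1; omega
  have cls : ∀ j, ((Sg (F.H j).lam 0 ∨ Sg (F.H j).lam (n - 1)) ∧ (F.H (F.π j)).lam ≠ (F.H j).lam) ∨
      (n = 3 ∧ Sg (F.H j).lam 1) ∨ (n = 5 ∧ Sg (F.H j).lam 2) := fun j => by
    by_cases e : (F.H (F.π j)).lam = (F.H j).lam
    · exact Or.inr (hR.tw_inv _ hn ((F.lam_π j).symm.trans e) hκ (one j))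
    · refine Or.inl ⟨hR.tw_non _ _ (F.lam_π j) e (κ := κ) ?_, e⟩
      have h1 := sum_le_sum_of_subset (f := fun j => 2 * (F.H j).cL (MM κ)) (subset_univ {j, F.π j})
      rw [sum_pair fun e' => e (by rw [← e'])] at h1
      omega
  by_cases h5 : n = 5 ∧ ∃ j, Sg (F.H j).lam 2
  · exact Or.inr ⟨hd, Or.inl h5⟩
  by_cases h3 : n = 3 ∧ ∃ j, Sg (F.H j).lam 1
  · obtain ⟨rfl, j0, h3⟩ := h3
    have hk : ((κ : ℕ) + 1) * (3 - κ) = 3 := by revert hκ; clear * -; revert κ; decide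
    rw [hk] at hs
    have c3 : ∀ j, Sg (F.H j).lam 1 → 3 ≤ (F.H j).cL (MM κ) := fun j hj => by
      obtain ⟨i, a1, a2⟩ := hj.ne
      have := hR.choose_mid _ a2 (by omega) κ
      rwa [a1] at this
    have sg : ∀ {l : Fin 3 → ℕ} {s t : ℕ}, Sg l s → Sg l t → s = t := by
      rintro l _ _ ⟨i, rfl, rfl⟩ ⟨j, rfl, e⟩
      by_contra e'
      have := congrFun e i
      rw [Pi.single_eq_same, Pi.single_eq_of_ne fun e => e' (by rw [e])] at this
      cases this
    have all : ∀ j, Sg (F.H j).lam 1 := fun j => by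
      rcases cls j with ⟨e, e'⟩ | e | e
      · exfalso
        have h1 := sum_le_sum_of_subset (f := fun j => 2 * (F.H j).cL (MM κ)) (subset_univ {j0, j, F.π j})
        have n1 : j0 ≠ j := by rintro rfl; rcases e with e | e <;> have := sg h3 e <;> omega
        have n2 : j0 ≠ F.π j := by
          rintro rfl; rw [F.lam_π] at h3; rcases e with e | e <;> have := sg h3 e.rev <;> omega
        rw [sum_insert (by simp [n1, n2]), sum_pair fun e'' => e' (by rw [← e''])] at h1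
        have := nat2 j e
        have := c3 j0 h3
        omega
      · exact e.2
      · omega
    have h1 := card_nsmul_le_sum univ (fun j => 2 * (F.H j).cL (MM κ)) 6 fun j _ => by have := c3 j (all j); omega
    rw [card_univ, smul_eq_mul] at h1
    by_cases h2 : Fintype.card F.J = 2
    · exact Or.inr ⟨hd, Or.inr ⟨rfl, h2, all⟩⟩
    refine Or.inl (good_MM F hR (κ := 1) (fun b hb => by rw [mem_MM] at hb ⊢; rw [fl_fst, fl_snd]; omega) ?_)
    refine (sum_le_card_nsmul _ _ 10 fun j _ => ?_).trans ?_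
    · obtain ⟨i, a1, a2⟩ := all j
      have b1 := hR.d_single_le _ a2
      have b2 := (F.H j).cL_lt_d (MM 1)
      rw [a1] at b1
      rw [hd j, if_neg (by simp)]
      have : Nat.choose (3 + 1) (1 + 1) = 6 := rfl
      omega
    · rw [card_univ, smul_eq_mul, card_MM]
      show _ ≤ 16
      omega
  have all : ∀ j, Sg (F.H j).lam 0 ∨ Sg (F.H j).lam (n - 1) := fun j =>
    (cls j).elim And.left fun e => (e.elim (fun e => h3 ⟨e.1, j, e.2⟩) fun e => h5 ⟨e.1, j, e.2⟩).elim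
  refine Or.inl (good_nat F hR (by omega) hd all ?_)
  have h1 := card_nsmul_le_sum univ (fun j => (F.H j).cL (MM κ) + (F.H (F.π j)).cL (MM κ)) (n + 1)
    fun j _ => nat2 j (all j)
  rw [card_univ, smul_eq_mul, sum_add_distrib, Equiv.sum_comp F.π fun j => (F.H j).cL (MM κ), ← two_mul, mul_sum] at h1
  have h2 := h1.trans hs
  by_contra e
  have h4 := (Nat.mul_le_mul_right (n + 1) (show n + 1 ≤ Fintype.card F.J by omega)).trans h2
  obtain ⟨t, ht⟩ : ∃ t, n = κ + 1 + t := ⟨n - κ - 1, by omega⟩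
  rw [show n - κ = t + 1 by omega] at h4
  generalize (κ : ℕ) = s at ht h4 hκ
  rw [ht] at h4
  have h6 : (0 : ℤ) < ((s : ℤ) - t) ^ 2 := by have : (s : ℤ) - t ≠ 0 := by omega
                                              positivity
  nlinarith

end fam

end Cfsg.Agent.TwoF.DC.TA
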