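import Cfsg.Agent.TwoF.DC.TA.Ct

/-!
# TwoF, defining characteristic, type `A_n` (6): degeneration of symmetric families, enumeration (helper97)
-/

set_option autoImplicit false
set_option linter.unusedSectionVars false

namespace Cfsg.Agent.TwoF.DC.TA

open Finset Module
open Cfsg.Agent.H356.TA (Pos)

theorem card_add_le {k L ι : Type} [Field k] [AddCommGroup L] [Module k L] [FiniteDimensional k L] [Fintype ι]
    (N : Submodule k L) (u : ι → L) (h : ∀ c : ι → k, ∑ i, c i • u i ∈ N → ∀ i, c i = 0) :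
    Fintype.card ι + finrank k N ≤ finrank k L := by
  have h1 : LinearIndependent k fun i => N.mkQ (u i) := Fintype.linearIndependent_iff.2 fun c hc => h c (by
    rw [← Submodule.Quotient.mk_eq_zero, ← N.mkQ_apply, map_sum]
    simpa only [map_smul] using hc)
  have h2 := h1.fintype_card_le_finrank
  have h3 := N.finrank_quotient_add_finrank
  omega

/-! ### enumeration of the abelian sets -/

/-- run through the abelian sublists -/
def go (test : List (ℕ × ℕ) → Bool) : List (ℕ × ℕ) → List (ℕ × ℕ) → Bool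
  | [], S => test S
  | r :: rs, S => go test rs S && (S.any (fun s => r.2 == s.1 || r.1 == s.2) || go test rs (r :: S))

theorem go_realised : True := by have := @go.eq_def; trivial

theorem go_spec {test : List (ℕ × ℕ) → Bool} (P : ℕ × ℕ → Bool) (hP : ∀ r s, P r = true → P s = true → r.2 ≠ s.1) :
    ∀ rs S, go test rs S = true → (∀ s ∈ S, P s = true) → test ((rs.filter P).reverse ++ S) = true := by
  intro rs
  induction rs with
  | nil => exact fun S h _ => h
  | cons r rs ih =>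
    intro S h hS
    rw [go, Bool.and_eq_true, Bool.or_eq_true, List.any_eq_true] at h
    by_cases hr : P r = true
    · rw [List.filter_cons_of_pos hr, List.reverse_cons, List.append_assoc]
      refine ih _ (h.2.resolve_left ?_) (List.forall_mem_cons.2 ⟨hr, hS⟩)
      rintro ⟨s, hs, e⟩
      rw [Bool.or_eq_true, beq_iff_eq, beq_iff_eq] at e
      exact e.elim (hP r s hr (hS s hs)) fun e => hP s r (hS s hs) hr e.symm
    · rw [List.filter_cons_of_neg hr]; exact ih _ h.1 hS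

variable {n : ℕ}

/-- a positive root as a pair of numbers -/
def vl (b : Pos n) : ℕ × ℕ := (b.1.1, b.1.2)
/-- the positive roots -/
def rts (n : ℕ) : List (ℕ × ℕ) := ((List.range (n + 1)).product (List.range (n + 1))).filter fun r => r.1 < r.2
/-- a set as a bit mask -/
def Tset (n T : ℕ) : Finset (Fin (n + 1)) := univ.filter fun a => T.testBit a = true
/-- the number of weights which are moved -/
def cnt (Ts : List ℕ) (l : List (ℕ × ℕ)) : ℕ := (Ts.filter fun T => l.any fun r => !T.testBit r.1 && T.testBit r.2).length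
/-- the mirror image is smaller -/
def lo (n : ℕ) (g : List ℕ) (r : ℕ × ℕ) : Bool := g.getD (n - r.2) 0 + g.getD r.2 0 < g.getD r.1 0 + g.getD (n - r.1) 0

theorem vl_inj : Function.Injective (vl (n := n)) := fun _ _ h => pos_ext (congrArg Prod.fst h) (congrArg Prod.snd h)

theorem vl_fl (b : Pos n) : vl (fl n b) = (n - (vl b).2, n - (vl b).1) := Prod.ext (fl_fst b) (fl_snd b)

theorem go_fin (S : Finset (Pos n)) (hS : ∀ b ∈ S, ∀ b' ∈ S, b.1.2 ≠ b'.1.1) {test : List (ℕ × ℕ) → Bool}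
    (h : go test (rts n) [] = true) : ∃ l, test l = true ∧ l.length = S.card ∧ ∀ r, r ∈ l ↔ ∃ b ∈ S, vl b = r := by
  have h1 := go_spec (fun r => decide (r ∈ S.image vl)) (fun r s hr hs => by
    obtain ⟨b, hb, rfl⟩ := mem_image.1 (of_decide_eq_true hr)
    obtain ⟨b', hb', rfl⟩ := mem_image.1 (of_decide_eq_true hs)
    exact fun e => hS b hb b' hb' (Fin.ext e)) _ _ h (by simp)
  have h2 : ∀ r, r ∈ ((rts n).filter fun r => decide (r ∈ S.image vl)).reverse ++ [] ↔ r ∈ S.image vl := fun r => by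
    rw [List.append_nil, List.mem_reverse, List.mem_filter, decide_eq_true_iff]
    refine ⟨And.right, fun hr => ⟨?_, hr⟩⟩
    obtain ⟨b, -, rfl⟩ := mem_image.1 hr
    exact List.mem_filter.2 ⟨List.pair_mem_product.2 ⟨List.mem_range.2 b.1.1.2, List.mem_range.2 b.1.2.2⟩,
      decide_eq_true (pos_lt b)⟩
  refine ⟨_, h1, ?_, fun r => (h2 r).trans mem_image⟩
  rw [← card_image_of_injective S vl_inj, ← List.toFinset_card_of_nodup]
  · congr 1; ext r; rw [List.mem_toFinset, h2]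
  · rw [List.append_nil, List.nodup_reverse]
    exact ((List.nodup_range.product List.nodup_range).filter _).filter _

variable {R : RC (Fin n) (Pos n)} {p : ℕ} {k L : Type} [Field k] [AddCommGroup L] [Module k L]

/-- the functional of a vector -/
def fn (m : Fin (n + 1) → ℤ) : (Fin n → ℤ) →+ ℤ where
  toFun c := ∑ i, c i * tw m i
  map_zero' := by simp
  map_add' c d := by simp [add_mul, sum_add_distrib]

/-- a commuting family of operators which are supported on the orbits of the graph symmetry -/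
structure Ops (H : HW R p k L) (X : Set (Module.End k L)) (S O : Finset (Pos n)) : Prop where
  comm : ∀ x ∈ X, ∀ y ∈ X, Commute x y
  S_fl : ∀ b ∈ S, fl n b ∈ S
  S_op : ∀ b ∈ S, ∃ x : k, x ≠ 0 ∧ x • H.E (true, b) 1 ∈ X
  O_ne : ∀ o ∈ O, o ∉ S ∧ fl n o ≠ o ∧ fl n o ∉ O
  O_op : ∀ o ∈ O, ∃ x y : k, x ≠ 0 ∧ y ≠ 0 ∧ x • H.E (true, o) 1 + y • H.E (true, fl n o) 1 ∈ X

namespace IsA

variable (hR : IsA R) (H : HW R p k L)
include hR

theorem fn_vec (m : Fin (n + 1) → ℤ) (b : Pos n) : fn m (R.vec (true, b)) = m b.1.1 - m b.1.2 := by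
  rw [← hR.pair_tw]
  show ∑ i, R.vec (true, b) i * tw m i = ∑ i, R.cov (true, b) i * tw m i
  exact sum_congr rfl fun i _ => by rw [RC.vec_true, RC.cov_true, hR.cf, hR.co]

theorem E_ind_w {T T' : Finset (Fin (n + 1))} {b : Pos n} (h : ind T + (ev b.1.1 - ev b.1.2) = ind T') {v : L}
    (hv : v ∈ H.w (tw (ind T))) : H.E (true, b) 1 v ∈ H.w (tw (ind T')) := by
  rw [← h, tw_add, ← hR.wt_true]; exact H.E1_w _ hv

variable {H} {i : Fin n} (hi : H.lam = Pi.single i 1) {T : Finset (Fin (n + 1))} (hT : T.card = i + 1)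
include hi hT

theorem ext_ind : H.Ext (tw (ind T)) := (hR.ext_single H hi).2 ⟨T, hT, rfl⟩

theorem E_ind_zero {b : Pos n} (h : b.1.1 ∈ T ∨ b.1.2 ∉ T) {v : L} (hv : v ∈ H.w (tw (ind T))) :
    H.E (true, b) 1 v = 0 :=
  (hR.ext_ind hi hT).E_eq_zero (by rw [hR.pair_tw]; simp only [ind]; split_ifs <;> simp_all) Nat.one_pos hv

theorem E_ind_ne {b : Pos n} (h : b.1.1 ∉ T ∧ b.1.2 ∈ T) {v : L} (hv : v ∈ H.w (tw (ind T))) (h0 : v ≠ 0) :
    H.E (true, b) 1 v ≠ 0 := fun e =>
  h0 ((hR.min_single H hi).x.ext (hR.ext_ind hi hT) (by rw [hR.pair_tw]; simp [ind, h.1, h.2]) hv e)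

omit hi hT
variable (H) [Fact p.Prime] [CharP k p]

theorem cnt_le (h : H.lam i ≠ 0) {Ts : List ℕ} (h1 : ∀ T ∈ Ts, (Tset n T).card = i + 1) (h2 : (Ts.map (Tset n)).Nodup)
    {S : Finset (Pos n)} {l : List (ℕ × ℕ)} (hl : ∀ r, r ∈ l ↔ ∃ b ∈ S, vl b = r) : cnt Ts l ≤ H.cL S := by
  rw [cnt, ← List.length_map (Tset n), ← List.toFinset_card_of_nodup (h2.sublist (List.filter_sublist.map _))]
  refine hR.card_le_cL H h S _ fun T' hT' => ?_
  obtain ⟨T, hT, rfl⟩ := List.mem_map.1 (List.mem_toFinset.1 hT')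
  obtain ⟨h3, h4⟩ := List.mem_filter.1 hT
  obtain ⟨r, hr, h5⟩ := List.any_eq_true.1 h4
  obtain ⟨b, hb, rfl⟩ := (hl r).1 hr
  exact ⟨h1 T h3, b, hb, by simpa [Tset, vl] using h5⟩

theorem ne_of_commute {b b' : Pos n} (h : Commute (H.E (true, b) 1) (H.E (true, b') 1)) : b.1.2 ≠ b'.1.1 := fun e => by
  have h1 := (hR.nz_true (Fact.out : p.Prime).ne_one b b').2 (Or.inl e)
  obtain ⟨z, hz⟩ := h1.1
  obtain ⟨N, h2, h3⟩ := H.br _ _ z hz
  rw [h.eq, sub_self, eq_comm, smul_eq_zero] at h2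
  exact h2.elim (h3 h1) (hR.E_ne H z)

variable {H} in
theorem deg {X : Set (Module.End k L)} {S O : Finset (Pos n)} (h : Ops H X S O) {N : Submodule k L}
    (hN : ∀ f ∈ X, N ≤ LinearMap.ker f) (g : List ℕ) (hg : ∀ b : Pos n, fl n b = b ∨ lo n g (vl b) ∨ lo n g (vl (fl n b))) :
    ∃ S' : Finset (Pos n), S'.card = S.card + O.card ∧ (∀ b ∈ S', ∀ b' ∈ S', b.1.2 ≠ b'.1.1) ∧
      finrank k N ≤ finrank k (H.kerL S') ∧ S ⊆ S' ∧ ∀ b ∈ S', b ∈ S ∨ (lo n g (vl (fl n b)) ∧
        ∃ x y : k, x ≠ 0 ∧ y ≠ 0 ∧ x • H.E (true, b) 1 + y • H.E (true, fl n b) 1 ∈ X) := by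
  classical
  let m : Fin (n + 1) → ℤ := fun a => g.getD a 0
  have hm : ∀ b : Pos n, lo n g (vl (fl n b)) → fn m (R.vec (true, b)) < fn m (R.vec (true, fl n b)) := fun b hb => by
    have e1 := fl_fst (fl n b)
    have e2 := fl_snd (fl n b)
    rw [fl_fl] at e1 e2
    rw [lo, decide_eq_true_iff] at hb
    simp only [vl] at hb
    rw [← e1, ← e2] at hb
    rw [hR.fn_vec, hR.fn_vec]
    simp only [m]; omega
  let f : Pos n → Pos n := fun o => if lo n g (vl (fl n o)) then o else fl n o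
  have hf : ∀ o, f o = o ∨ f o = fl n o := fun o => by simp only [f]; split_ifs <;> simp
  have h1 : ∀ b ∈ S ∪ O.image f, b ∈ S ∨ (lo n g (vl (fl n b)) ∧
      ∃ x y : k, x ≠ 0 ∧ y ≠ 0 ∧ x • H.E (true, b) 1 + y • H.E (true, fl n b) 1 ∈ X) := fun b hb => by
    refine (mem_union.1 hb).imp_right fun hb => ?_
    obtain ⟨o, ho, rfl⟩ := mem_image.1 hb
    obtain ⟨x, y, hx, hy, e⟩ := h.O_op o ho
    simp only [f]
    split_ifs with h2
    · exact ⟨h2, x, y, hx, hy, e⟩
    · rw [fl_fl]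
      exact ⟨((hg o).resolve_left (h.O_ne o ho).2.1).resolve_right h2, y, x, hy, hx, by rwa [add_comm]⟩
  have h2 : ∀ b ∈ S ∪ O.image f, ∃ x : k, ∃ s, ∃ f ∈ X, H.idm.Ld (H.lf (fn m)) s (x • f) (H.E (true, b) 1) := by
    intro b hb
    rcases h1 b hb with e | ⟨e, x, y, hx, -, e'⟩
    · obtain ⟨x, hx, e'⟩ := h.S_op b e
      exact ⟨x⁻¹, _, _, e', by rw [smul_smul, inv_mul_cancel₀ hx, one_smul]; exact (H.hm_E1 _ _).ld⟩
    · refine ⟨x⁻¹, fn m (R.vec (true, b)), _, e', ?_⟩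
      rw [smul_add, smul_smul, inv_mul_cancel₀ hx, one_smul, smul_smul]
      exact (H.hm_E1 _ _).ld.add_ge (((H.hm_E1 _ _).smul _).ge.mono (hm b e))
  refine ⟨S ∪ O.image f, ?_, fun b hb b' hb' => ?_, ?_, subset_union_left, h1⟩
  · rw [card_union_of_disjoint, card_image_of_injOn]
    · intro o ho o' ho' e
      rcases hf o with e1 | e1 <;> rcases hf o' with e2 | e2 <;> rw [e1, e2] at e
      · exact e
      · exact ((h.O_ne o' ho').2.2 (e ▸ ho)).elim
      · exact ((h.O_ne o ho).2.2 (e ▸ ho')).elim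
      · exact (fl n).injective e
    · refine disjoint_left.2 fun b hb hb' => ?_
      obtain ⟨o, ho, rfl⟩ := mem_image.1 hb'
      rcases hf o with e | e <;> rw [e] at hb
      · exact (h.O_ne o ho).1 hb
      · exact (h.O_ne o ho).1 (fl_fl o ▸ h.S_fl _ hb)
  · obtain ⟨x, s, f, a1, a2⟩ := h2 b hb
    obtain ⟨x', s', f', b1, b2⟩ := h2 b' hb'
    exact hR.ne_of_commute H (a2.commute b2 (((h.comm f a1 f' b1).smul_left x).smul_right x'))
  · have := H.fd
    refine (H.finrank_ker_le (H.lf (fn m)) (A := ↑(S ∪ O.image f)) (g := fun b => H.E (true, b) 1) fun b hb => ?_).trans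
      (Submodule.finrank_mono fun v hv => H.mem_kerL.2 fun b hb =>
        (Submodule.mem_iInf _).1 ((Submodule.mem_iInf _).1 hv b) (mem_coe.2 hb))
    obtain ⟨x, s, f, a1, a2⟩ := h2 b hb
    exact ⟨s, _, a2, fun v hv => by rw [LinearMap.mem_ker, LinearMap.smul_apply, hN f a1 hv, smul_zero]⟩

end IsA

end Cfsg.Agent.TwoF.DC.TA
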