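import Cfsg.Agent.TwoF.DC.TA.Vec

/-!
# TwoF, defining characteristic, type `A_n` (2): interface of the instances (helper97).  Plan: `notes/TwoF/ta.md`

`BoxComb` : the combinatorics; `BoxL`, `BoxU` : the instances `SL`, `SU`.
-/

set_option autoImplicit false
set_option linter.unusedSectionVars false

namespace Cfsg.Agent.TwoF.DC.TA

open Cfsg.Agent.H356.TA (Pos)

/-- the positive root `ε a - ε b` of `A_3` -/
def r3 (a b : Fin 4) (h : a < b := by decide) : Pos 3 := ⟨(a, b), h⟩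

/-- an elementary abelian subgroup of order `q ^ 3` of `Sp_4(q) ≤ SU_4(q)`, `q = 2 ^ f` -/
def Sub3 {p : ℕ} {k G : Type} [Field k] [Group G] (D : RDat p (Fin 3) (Pos 3) k G) {T : Type} [Group T] (φ : T →* G)
    (f : ℕ) : Prop :=
  Commute (D.z (r3 0 1) 1 * D.z (r3 2 3) 1) (D.z (r3 0 2) 1 * D.z (r3 1 3) 1) ∧
    ∃ B : Subgroup T, IsElementaryAbelian p B ∧ (p ^ f) ^ 3 ≤ Nat.card B ∧ ∀ x ∈ B, ∃ s t u : k,
      φ x = D.z (r3 0 1) s * D.z (r3 2 3) s * (D.z (r3 0 2) t * D.z (r3 1 3) t) * D.z (r3 0 3) u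

/-- `Sub3` if the rank is three -/
def Sub3' {p n : ℕ} {k G : Type} [Field k] [Group G] (D : RDat p (Fin n) (Pos n) k G) {T : Type} [Group T] (φ : T →* G)
    (f : ℕ) : Prop := ∀ h : n = 3, Sub3 (h ▸ D) φ f

theorem sub3'_iff {p : ℕ} {k G : Type} [Field k] [Group G] (D : RDat p (Fin 3) (Pos 3) k G) {T : Type} [Group T]
    (φ : T →* G) (f : ℕ) : Sub3' D φ f ↔ Sub3 D φ f := ⟨fun h => h rfl, fun h _ => h⟩

/-- what an instance of type `A_n` has to deliver -/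
structure StdA {p n : ℕ} {k G : Type} [Field k] [Infinite k] [Group G] {D : RDat p (Fin n) (Pos n) k G} {T S : Type}
    [Group T] [Finite T] [Group S] (M : Std D T S) : Prop where
  isA : IsA D.R
  gr : ∀ γ : M.Gr, γ = 1 ∨ (2 ≤ n ∧ M.gι γ = Fin.revPerm ∧ M.gΦ γ = fl n)
  aut : M.AutFact
  sub : p = 2 → M.σ ≠ 1 → Sub3' D M.φ M.f

/-- the combinatorics of type `A_n` -/
def BoxComb : Prop :=
  ∀ (p : ℕ) [Fact p.Prime] (n : ℕ) (k G : Type) [Field k] [IsAlgClosed k] [CharP k p] [Group G]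
    (D : RDat p (Fin n) (Pos n) k G) (T S : Type) [Group T] [Finite T] [Group S] (M : Std D T S), 1 ≤ n → StdA M →
    M.Full fun _ => True

/-- the simple group `S` has an instance of type `A_n` -/
def HasA (p n : ℕ) (S : Type) [Group S] : Prop :=
  ∃ (k G : Type) (_ : Field k) (_ : IsAlgClosed k) (_ : CharP k p) (_ : Group G) (D : RDat p (Fin n) (Pos n) k G)
    (T : Type) (_ : Group T) (_ : Finite T) (M : Std D T S), StdA M

/-- the instance `SL_(n+1)(q)` -/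
def BoxL : Prop :=
  ∀ (p : ℕ) [Fact p.Prime] (F : Type) [Field F] [Fintype F] [CharP F p] (n : ℕ), 1 ≤ n →
    (n = 1 → 4 ≤ Fintype.card F) → HasA p n (Matrix.ProjectiveSpecialLinearGroup (Fin (n + 1)) F)

/-- the instance `SU_(n+1)(q)` -/
def BoxU : Prop :=
  ∀ (p : ℕ) [Fact p.Prime] (F : Type) [Field F] [Fintype F] [CharP F p] (n q : ℕ), Fintype.card F = q ^ 2 → 2 ≤ n →
    ¬ (n = 2 ∧ q = 2) → HasA p n (PSU (n + 1) F q)

theorem HasA.row (h0 : BoxStd) (h1 : BoxComb) {p n : ℕ} [Fact p.Prime] {S : Type} [Group S] (hn : 1 ≤ n)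
    (h : HasA p n S) : Row p S := by
  obtain ⟨k, G, _, _, _, _, D, T, _, _, M, hM⟩ := h
  exact h0 p _ _ k G D T S M (h1 p n k G D T S M hn hM)

theorem row_psl (h0 : BoxStd) (h1 : BoxComb) (h2 : BoxL) (p : ℕ) [Fact p.Prime] (S : Type) [Group S]
    (h : IsPSLChar p S) : Row p S := by
  obtain ⟨F, _, _, _, n, hn, hs, ⟨e⟩⟩ := h
  obtain ⟨n, rfl⟩ : ∃ m, n = m + 1 := ⟨n - 1, by omega⟩
  exact ((h2 p F n (by omega) fun h => hs (by omega)).row h0 h1 (by omega)).of_equiv e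

theorem row_psu (h0 : BoxStd) (h1 : BoxComb) (h2 : BoxU) (p : ℕ) [Fact p.Prime] (S : Type) [Group S]
    (h : IsPSUChar p S) : Row p S := by
  obtain ⟨F, _, _, _, n, q, hF, hn, hs, ⟨e⟩⟩ := h
  obtain ⟨n, rfl⟩ : ∃ m, n = m + 1 := ⟨n - 1, by omega⟩
  exact ((h2 p F n q hF (by omega) fun h => hs ⟨by omega, h.2⟩).row h0 h1 (by omega)).of_equiv e

end Cfsg.Agent.TwoF.DC.TA
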