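import Cfsg.Agent.TwoF.DC.TA.Wt

/-!
# TwoF, defining characteristic, type `A_n` (4): levels, lower bounds for the radicals `MM κ` (helper97)
-/

set_option autoImplicit false
set_option linter.unusedSectionVars false

namespace Cfsg.Agent.TwoF.DC.TA

open Finset Module
open Cfsg.Agent.H356.TA (Pos)

variable {n : ℕ}

/-- the level of the lowest weight of a fundamental module -/
def mn (i κ : Fin n) : ℕ := min (min (i + 1) (κ + 1)) (min (n - i) (n - κ))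
/-- the level of the lowest weight -/
def lv (l : Fin n → ℕ) (κ : Fin n) : ℕ := ∑ i, l i * mn i κ
/-- the level of the reversed vector -/
def lvl (m : Fin (n + 1) → ℤ) (κ : Fin n) : ℤ := ps (m - m ∘ rv n) κ

theorem mn_pos (i κ : Fin n) : 1 ≤ mn i κ := by unfold mn; omega
theorem mn_rev (i κ : Fin n) : mn i.rev κ = mn i κ := by unfold mn; rw [Fin.val_rev]; omega

theorem lv_rev (l : Fin n → ℕ) (κ : Fin n) : lv (l ∘ (Fin.revPerm : Equiv.Perm (Fin n)).symm) κ = lv l κ := by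
  rw [lv, lv, ← Equiv.sum_comp Fin.revPerm]
  exact sum_congr rfl fun i _ => by
    rw [Function.comp_apply, Equiv.symm_apply_apply]; exact congrArg _ (mn_rev i κ)

theorem lv_single (i κ : Fin n) : lv (Pi.single i 1) κ = mn i κ := by
  rw [lv, sum_eq_single i (fun j _ h => by simp [h]) (fun h => (h (mem_univ _)).elim)]; simp

theorem lv_add (l l' : Fin n → ℕ) (κ : Fin n) : lv (l + l') κ = lv l κ + lv l' κ := by
  simp only [lv, Pi.add_apply, add_mul, sum_add_distrib]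

theorem eq_zero_of_lv {l : Fin n → ℕ} {κ : Fin n} (h : lv l κ = 0) : l = 0 := funext fun i => by
  have h1 := sum_eq_zero_iff.1 h i (mem_univ _)
  have h2 := mn_pos i κ
  exact (mul_eq_zero.1 h1).resolve_right (by omega)

theorem exists_add_single {l : Fin n → ℕ} {i : Fin n} (h : l i ≠ 0) : ∃ l' : Fin n → ℕ, l = Pi.single i 1 + l' :=
  ⟨l - Pi.single i 1, funext fun j => by
    simp only [Pi.add_apply, Pi.sub_apply, Pi.single_apply]; split_ifs with h1 <;> [(rw [h1]; omega); omega]⟩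

theorem mn_le_lv {l : Fin n → ℕ} {i : Fin n} (h : l i ≠ 0) (κ : Fin n) : mn i κ ≤ lv l κ := by
  obtain ⟨l', rfl⟩ := exists_add_single h
  rw [lv_add, lv_single]; omega

theorem single_of_lv {l : Fin n → ℕ} {i κ : Fin n} (h : l i ≠ 0) (h' : lv l κ ≤ mn i κ) : l = Pi.single i 1 := by
  obtain ⟨l', rfl⟩ := exists_add_single h
  rw [lv_add, lv_single] at h'
  rw [eq_zero_of_lv (l := l') (κ := κ) (by omega), add_zero]

theorem ini_inter (s t : ℕ) : ini n s ∩ ini n t = ini n (min s t) := by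
  ext a; simp only [mem_inter, mem_ini]; omega

theorem lvl_ini (i κ : Fin n) : lvl (ind (ini n (i + 1))) κ = mn i κ := by
  have h1 : fns n (n - i) ∩ ini n (κ + 1) = ini n (κ + 1) \ ini n (n - i) := by
    ext a; simp only [mem_inter, mem_sdiff, mem_ini, mem_fns]; omega
  rw [lvl, ind_comp (T := fns n (n - i)) fun a => by rw [mem_ini, mem_fns, rv_val]; omega, ps_sub, Pi.sub_apply, ps_ind,
    ps_ind, h1, card_sdiff, ini_inter, ini_inter, card_ini (by omega), card_ini (by omega), card_ini (by omega), mn]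
  omega

theorem lvl_m0 {R : RC (Fin n) (Pos n)} {p : ℕ} {k L : Type} [Field k] [AddCommGroup L] [Module k L] (H : HW R p k L)
    (κ : Fin n) : lvl (m0 H) κ = lv H.lam κ := by
  have h1 : m0 H - m0 H ∘ rv n =
      ∑ i, (H.lam i : ℤ) • (ind (ini n ((i : ℕ) + 1)) - ind (ini n ((i : ℕ) + 1)) ∘ rv n) := by
    funext a
    simp only [m0, Pi.sub_apply, Function.comp_apply, Finset.sum_apply, Pi.smul_apply, smul_eq_mul, mul_sub,
      sum_sub_distrib]
  rw [lvl, h1, ps_sum, Finset.sum_apply, lv, Nat.cast_sum]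
  exact sum_congr rfl fun i _ => by rw [ps_smul, Pi.smul_apply, ← lvl, lvl_ini, smul_eq_mul, Nat.cast_mul]

theorem ps_neg (m : Fin (n + 1) → ℤ) : ps (-m) = -ps m := by
  rw [← neg_one_smul ℤ m, ps_smul, neg_one_smul]

theorem anti_rv {m : Fin (n + 1) → ℤ} (h : Antitone m) : Antitone (-(m ∘ rv n)) := fun a b hab =>
  neg_le_neg (h (show rv n b ≤ rv n a from Fin.rev_le_rev.2 hab))

theorem lvl_rv (m : Fin (n + 1) → ℤ) (κ : Fin n) : lvl (-(m ∘ rv n)) κ = lvl m κ := by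
  unfold lvl
  congr 1
  funext a
  simp only [Pi.sub_apply, Pi.neg_apply, Function.comp_apply, rv_rv]; ring

/-- the extremal weights and their neighbours -/
def Gd (m u : Fin (n + 1) → ℤ) : Prop :=
  ∃ π : Equiv.Perm (Fin (n + 1)), u = m ∘ π ∨ ∃ a b, m b < m a ∧ u = (m - ev a + ev b) ∘ π

theorem Gd.sum {m u : Fin (n + 1) → ℤ} (h : Gd m u) : ∑ a, u a = ∑ a, m a := by
  obtain ⟨π, rfl | ⟨a, b, -, rfl⟩⟩ := h
  · exact sum_comp m π
  · rw [sum_comp]; simp only [Pi.add_apply, Pi.sub_apply, sum_add_distrib, sum_sub_distrib, sum_ev]; ring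

theorem Gd.of_comp {m u : Fin (n + 1) → ℤ} {ρ : Equiv.Perm (Fin (n + 1))} (h : Gd (m ∘ ρ) u) : Gd m u := by
  obtain ⟨π, rfl | ⟨a, b, h, rfl⟩⟩ := h
  · exact ⟨ρ * π, Or.inl rfl⟩
  · refine ⟨ρ * π, Or.inr ⟨ρ a, ρ b, h, funext fun x => ?_⟩⟩
    simp only [Function.comp_apply, Pi.add_apply, Pi.sub_apply, Equiv.Perm.mul_apply, ev, EmbeddingLike.apply_eq_iff_eq]

theorem Gd.neg {m u : Fin (n + 1) → ℤ} (h : Gd (-m) u) : Gd m (-u) := by
  obtain ⟨π, rfl | ⟨a, b, h, rfl⟩⟩ := h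
  · exact ⟨π, Or.inl (funext fun x => neg_neg _)⟩
  · refine ⟨π, Or.inr ⟨b, a, neg_lt_neg_iff.1 h, funext fun x => ?_⟩⟩
    simp only [Function.comp_apply, Pi.add_apply, Pi.sub_apply, Pi.neg_apply]; ring

/-- at least `c` weights of nonzero level -/
def Lb (m : Fin (n + 1) → ℤ) (κ : Fin n) (c : ℕ) : Prop :=
  ∃ A : Finset (Fin (n + 1) → ℤ), c ≤ A.card ∧ ∀ u ∈ A, Gd m u ∧ ps (m - u) κ ≠ 0

/-- the highest root -/
def Adj (m : Fin (n + 1) → ℤ) : Prop := ∃ c : ℤ, m = (fun _ => c) + (ev 0 - ev (Fin.last n))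

/-- not constant -/
def NC (I : Finset (Fin (n + 1))) (m : Fin (n + 1) → ℤ) : Prop := I.card ≤ 1 ∨ ∃ x ∈ I, ∃ y ∈ I, m x ≠ m y

theorem Adj.lvl {m : Fin (n + 1) → ℤ} (h : Adj m) (κ : Fin n) : lvl m κ = 2 := by
  obtain ⟨c, rfl⟩ := h
  have h1 : ((fun _ => c) + (ev 0 - ev (Fin.last n))) - ((fun _ => c) + (ev 0 - ev (Fin.last n))) ∘ rv n =
      (2 : ℤ) • (ev 0 - ev (Fin.last n)) := by
    funext a
    simp only [Pi.add_apply, Pi.sub_apply, Function.comp_apply, Pi.smul_apply, smul_eq_mul, ev_apply, rv_val,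
      Fin.val_zero, Fin.val_last]
    omega
  rw [TA.lvl, h1, ps_smul, ps_sub, Pi.smul_apply, Pi.sub_apply, ps_ev, ps_ev]
  simp

theorem find {m : Fin (n + 1) → ℤ} (hm : Antitone m) (κ : Fin n) (h : 2 ≤ lvl m κ) :
    (∃ a ∈ ini n (κ + 1), ∃ b ∈ fns n (κ + 1), m b < m a ∧ NC (ini n (κ + 1)) (m - ev a + ev b) ∧
      NC (fns n (κ + 1)) (m - ev a + ev b)) ∨ (Adj m ∧ 1 ≤ (κ : ℕ) ∧ (κ : ℕ) + 2 ≤ n) := by
  have hκ := κ.2
  have z0 : (0 : Fin (n + 1)) ∈ ini n (κ + 1) := mem_ini.2 (by simp)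
  have z1 : κ.castSucc ∈ ini n (κ + 1) := mem_ini.2 (by simp)
  have z2 : κ.succ ∈ fns n (κ + 1) := mem_fns.2 (by simp)
  have z3 : Fin.last n ∈ fns n (κ + 1) := mem_fns.2 (by simp)
  have a01 : m κ.castSucc ≤ m 0 := hm (Fin.zero_le _)
  have a12 : m κ.succ ≤ m κ.castSucc := hm Fin.castSucc_lt_succ.le
  have a23 : m (Fin.last n) ≤ m κ.succ := hm (Fin.le_last _)
  have aI : ∀ x : Fin (n + 1), (x : ℕ) ≤ κ → m κ.castSucc ≤ m x ∧ m x ≤ m 0 := fun x hx => ⟨hm hx, hm (Fin.zero_le _)⟩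
  have aJ : ∀ x : Fin (n + 1), (κ : ℕ) < x → m (Fin.last n) ≤ m x ∧ m x ≤ m κ.succ :=
    fun x hx => ⟨hm (Fin.le_last _), hm hx⟩
  have key : ¬ ∃ e : ℤ, e ≤ 1 ∧ m - m ∘ rv n = e • (ev 0 - ev (Fin.last n)) := by
    rintro ⟨e, h1, h2⟩
    rw [lvl, h2, ps_smul, ps_sub, Pi.smul_apply, Pi.sub_apply, ps_ev, ps_ev, if_pos (by simp), if_neg (by simp)] at h
    simp only [smul_eq_mul] at h; omega
  have I0 : ∀ b ∈ fns n (κ + 1), ¬ (1 ≤ (κ : ℕ) ∧ ∀ x : Fin (n + 1), (x : ℕ) ≤ κ → m x = m κ.castSucc + ev 0 x) →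
      NC (ini n (κ + 1)) (m - ev 0 + ev b) := by
    intro b hb h1
    by_contra h2
    simp only [NC, not_or, not_exists, not_and, not_not, card_ini (show (κ : ℕ) + 1 ≤ n + 1 by omega)] at h2
    refine h1 ⟨by omega, fun x hx => ?_⟩
    have h3 := h2.2 x (mem_ini.2 (by omega)) _ z1
    rw [mem_fns] at hb
    simp only [Pi.add_apply, Pi.sub_apply, ev_apply, Fin.val_castSucc, Fin.val_zero] at h3 ⊢
    omega
  have I1 : ∀ b ∈ fns n (κ + 1), 1 ≤ (κ : ℕ) → NC (ini n (κ + 1)) (m - ev κ.castSucc + ev b) := by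
    intro b hb h1
    refine Or.inr ⟨0, z0, _, z1, ?_⟩
    rw [mem_fns] at hb
    simp only [Pi.add_apply, Pi.sub_apply, ev_apply, Fin.val_castSucc, Fin.val_zero, if_true]
    omega
  have J0 : ∀ a ∈ ini n (κ + 1),
      ¬ ((κ : ℕ) + 2 ≤ n ∧ ∀ x : Fin (n + 1), (κ : ℕ) < x → m x = m κ.succ - ev (Fin.last n) x) →
      NC (fns n (κ + 1)) (m - ev a + ev (Fin.last n)) := by
    intro a ha h1
    by_contra h2
    simp only [NC, not_or, not_exists, not_and, not_not, card_fns (show (κ : ℕ) + 1 ≤ n + 1 by omega)] at h2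
    refine h1 ⟨by omega, fun x hx => ?_⟩
    have h3 := h2.2 x (mem_fns.2 (by omega)) _ z2
    rw [mem_ini] at ha
    simp only [Pi.add_apply, Pi.sub_apply, ev_apply, Fin.val_succ, Fin.val_last] at h3 ⊢
    omega
  have J1 : ∀ a ∈ ini n (κ + 1), (κ : ℕ) + 2 ≤ n → NC (fns n (κ + 1)) (m - ev a + ev κ.succ) := by
    intro a ha h1
    refine Or.inr ⟨_, z2, _, z3, ?_⟩
    rw [mem_ini] at ha
    simp only [Pi.add_apply, Pi.sub_apply, ev_apply, Fin.val_succ, Fin.val_last, if_true]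
    omega
  have all : ∀ x : Fin (n + 1), (x : ℕ) ≤ κ ∨ (κ : ℕ) < x := fun x => by omega
  by_cases hI : 1 ≤ (κ : ℕ) ∧ ∀ x : Fin (n + 1), (x : ℕ) ≤ κ → m x = m κ.castSucc + ev 0 x <;>
    by_cases hJ : (κ : ℕ) + 2 ≤ n ∧ ∀ x : Fin (n + 1), (κ : ℕ) < x → m x = m κ.succ - ev (Fin.last n) x
  · by_cases h1 : m κ.succ < m κ.castSucc
    · exact Or.inl ⟨_, z1, _, z2, h1, I1 _ z2 hI.1, J1 _ z1 hJ.1⟩
    refine Or.inr ⟨⟨m κ.succ, funext fun x => ?_⟩, hI.1, hJ.1⟩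
    rcases all x with h2 | h2
    · rw [hI.2 x h2]; simp only [Pi.add_apply, Pi.sub_apply, ev_apply, Fin.val_zero, Fin.val_last]; omega
    · rw [hJ.2 x h2]; simp only [Pi.add_apply, Pi.sub_apply, ev_apply, Fin.val_zero, Fin.val_last]; omega
  · by_cases h1 : m (Fin.last n) < m κ.castSucc
    · exact Or.inl ⟨_, z1, _, z3, h1, I1 _ z3 hI.1, J0 _ z1 hJ⟩
    have h2 : ∀ x, m x = m κ.castSucc + ev 0 x := fun x => (all x).elim (hI.2 x) fun h2 => by
      have := aJ x h2; simp only [ev_apply, Fin.val_zero]; omega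
    refine (key ⟨1, le_rfl, funext fun x => ?_⟩).elim
    simp only [Pi.sub_apply, Function.comp_apply, one_smul]
    rw [h2 x, h2 (rv n x)]
    simp only [ev_apply, rv_val, Fin.val_zero, Fin.val_last]; omega
  · by_cases h1 : m κ.succ < m 0
    · exact Or.inl ⟨_, z0, _, z2, h1, I0 _ z2 hI, J1 _ z0 hJ.1⟩
    have h2 : ∀ x, m x = m κ.succ - ev (Fin.last n) x := fun x => (all x).elim (fun h2 => by
      have := aI x h2; simp only [ev_apply, Fin.val_last]; omega) (hJ.2 x)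
    refine (key ⟨1, le_rfl, funext fun x => ?_⟩).elim
    simp only [Pi.sub_apply, Function.comp_apply, one_smul]
    rw [h2 x, h2 (rv n x)]
    simp only [ev_apply, rv_val, Fin.val_zero, Fin.val_last]; omega
  · by_cases h1 : m (Fin.last n) < m 0
    · exact Or.inl ⟨_, z0, _, z3, h1, I0 _ z3 hI, J0 _ z0 hJ⟩
    have h2 : ∀ x, m x = m 0 := fun x => le_antisymm (hm (Fin.zero_le _)) ((not_lt.1 h1).trans (hm (Fin.le_last _)))
    refine (key ⟨0, zero_le_one, funext fun x => ?_⟩).elim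
    simp only [Pi.sub_apply, Function.comp_apply, zero_smul, Pi.zero_apply]
    rw [h2 x, h2 (rv n x), sub_self]

theorem orb_blocks (m : Fin (n + 1) → ℤ) (κ : Fin n) (hI : NC (ini n (κ + 1)) m) (hJ : NC (fns n (κ + 1)) m) :
    ∃ A : Finset (Fin (n + 1) → ℤ), A.card = (κ + 1) * (n - κ) ∧
      ∀ u ∈ A, ps u κ = ps m κ ∧ ∃ π : Equiv.Perm (Fin (n + 1)), u = m ∘ π := by
  obtain ⟨A, h1, h2⟩ := exists_orb (disjoint_ini_fns (le_refl ((κ : ℕ) + 1))) m hI hJ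
  refine ⟨A, by rw [h1, card_ini (by omega), card_fns (by omega)]; congr 1; omega, fun u hu => ?_⟩
  obtain ⟨π, rfl, h3, -⟩ := h2 u hu
  exact ⟨ps_perm m h3, π, rfl⟩

theorem fam1 {m : Fin (n + 1) → ℤ} (hm : Antitone m) (κ : Fin n) (h : 2 ≤ lvl m κ)
    (h' : ¬ (Adj m ∧ 1 ≤ (κ : ℕ) ∧ (κ : ℕ) + 2 ≤ n)) :
    ∃ A : Finset (Fin (n + 1) → ℤ), A.card = (κ + 1) * (n - κ) ∧ ∀ u ∈ A, Gd m u ∧ ps (m - u) κ = 1 := by
  obtain ⟨a, ha, b, hb, h1, h2, h3⟩ := (find hm κ h).resolve_right h'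
  obtain ⟨A, h4, h5⟩ := orb_blocks _ κ h2 h3
  refine ⟨A, h4, fun u hu => ?_⟩
  obtain ⟨h6, π, h7⟩ := h5 u hu
  refine ⟨⟨π, Or.inr ⟨a, b, h1, h7⟩⟩, ?_⟩
  rw [mem_ini] at ha
  rw [mem_fns] at hb
  rw [ps_sub, Pi.sub_apply, h6, ps_add, ps_sub, Pi.add_apply, Pi.sub_apply, ps_ev, ps_ev]
  omega

theorem gd_rv (m : Fin (n + 1) → ℤ) : Gd m (m ∘ rv n) := ⟨rv n, Or.inl rfl⟩

theorem card_union_lev {A B : Finset (Fin (n + 1) → ℤ)} (f : (Fin (n + 1) → ℤ) → ℤ) {s t : ℤ} (hst : s ≠ t)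
    (hA : ∀ u ∈ A, f u = s) (hB : ∀ u ∈ B, f u = t) : (A ∪ B).card = A.card + B.card :=
  card_union_of_disjoint (disjoint_left.2 fun u h1 h2 => hst ((hA u h1).symm.trans (hB u h2)))

theorem lb_three {m : Fin (n + 1) → ℤ} (hm : Antitone m) (κ : Fin n) (h : 3 ≤ lvl m κ) :
    Lb m κ (2 * ((κ + 1) * (n - κ)) + 1) := by
  classical
  obtain ⟨A, a1, a2⟩ := fam1 hm κ (by omega) fun e => by have := e.1.lvl κ; omega
  obtain ⟨B, b1, b2⟩ := fam1 (anti_rv hm) κ (by rw [lvl_rv]; omega) fun e => by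
    have := e.1.lvl κ; rw [lvl_rv] at this; omega
  have b3 : ∀ u ∈ B.image Neg.neg, Gd m u ∧ ps (m - u) κ = lvl m κ - 1 := by
    intro u' hu'
    obtain ⟨u, hu, rfl⟩ := mem_image.1 hu'
    refine ⟨(b2 u hu).1.neg.of_comp, ?_⟩
    have := (b2 u hu).2
    simp only [lvl, ps_sub, ps_neg, Pi.sub_apply, Pi.neg_apply] at this ⊢
    omega
  refine ⟨insert (m ∘ rv n) (A ∪ B.image Neg.neg), ?_, fun u hu => ?_⟩
  · rw [card_insert_of_notMem, card_union_lev (fun u => ps (m - u) κ) (s := 1) (t := lvl m κ - 1) (by omega)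
      (fun u hu => (a2 u hu).2) fun u hu => (b3 u hu).2, card_image_of_injective _ neg_injective, a1, b1]
    · omega
    · rw [mem_union]
      rintro (e | e)
      · have := (a2 _ e).2; unfold lvl at h; omega
      · have := (b3 _ e).2; unfold lvl at this; omega
  · rw [mem_insert, mem_union] at hu
    rcases hu with rfl | hu | hu
    · exact ⟨gd_rv m, by unfold lvl at h; omega⟩
    · exact ⟨(a2 u hu).1, by rw [(a2 u hu).2]; omega⟩
    · exact ⟨(b3 u hu).1, by rw [(b3 u hu).2]; omega⟩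

theorem lb_adj {m : Fin (n + 1) → ℤ} (h : Adj m) (κ : Fin n) : Lb m κ ((n + 1) * n - (κ + 1) * (n - κ) + 1) := by
  classical
  obtain ⟨c, rfl⟩ := h
  have hκ := κ.2
  let f : Fin (n + 1) × Fin (n + 1) → Fin (n + 1) → ℤ := fun z => (fun _ => c) + (ev z.1 - ev z.2)
  let P : Finset (Fin (n + 1) × Fin (n + 1)) := univ.offDiag \ (ini n (κ + 1) ×ˢ fns n (κ + 1))
  have hP : ∀ z ∈ P, (z.1 : ℕ) ≠ z.2 ∧ ¬ ((z.1 : ℕ) ≤ κ ∧ (κ : ℕ) < z.2) := fun z hz => by
    simp only [P, mem_sdiff, mem_offDiag, mem_univ, true_and, mem_product, mem_ini, mem_fns, ne_eq, Fin.ext_iff] at hz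
    omega
  have h0 : (0 : Fin (n + 1)) ≠ Fin.last n := by rw [ne_eq, Fin.ext_iff]; simp; omega
  refine ⟨insert (fun _ => c) (P.image f), ?_, fun u hu => ?_⟩
  · rw [card_insert_of_notMem, card_image_of_injOn]
    · have h1 := le_card_sdiff (ini n (κ + 1) ×ˢ fns n (κ + 1)) (univ.offDiag : Finset (Fin (n + 1) × Fin (n + 1)))
      rw [offDiag_card, card_product, card_ini (by omega), card_fns (by omega), card_univ, Fintype.card_fin,
        show n + 1 - (κ + 1) = n - κ by omega, show (n + 1) * (n + 1) - (n + 1) = (n + 1) * n by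
          rw [mul_add, mul_one, Nat.add_sub_cancel]] at h1
      exact Nat.succ_le_succ h1
    · intro z hz w hw e
      have h1 := congrFun e z.1
      have h2 := congrFun e z.2
      have h3 := (hP z hz).1
      have h4 := (hP w hw).1
      simp only [f, Pi.add_apply, Pi.sub_apply, ev_apply, if_true] at h1 h2
      exact Prod.ext (Fin.ext (by omega)) (Fin.ext (by omega))
    · rw [mem_image]
      rintro ⟨z, hz, e⟩
      have h1 := congrFun e z.1
      have h3 := (hP z hz).1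
      simp only [f, Pi.add_apply, Pi.sub_apply, ev_apply, if_true] at h1
      omega
  · rw [mem_insert, mem_image] at hu
    rcases hu with rfl | ⟨z, hz, rfl⟩
    · refine ⟨⟨1, Or.inr ⟨0, Fin.last n, ?_, funext fun x => ?_⟩⟩, ?_⟩
      · simp only [Pi.add_apply, Pi.sub_apply, ev, if_true, h0, h0.symm, if_false]; omega
      · simp only [Function.comp_apply, Pi.add_apply, Pi.sub_apply, Equiv.Perm.one_apply]; ring
      · rw [add_sub_cancel_left, ps_sub, Pi.sub_apply, ps_ev, ps_ev, Fin.val_zero, Fin.val_last]; omega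
    · obtain ⟨h1, h2⟩ := hP z hz
      obtain ⟨π, p1, p2⟩ := exists_perm_pair (X := {z.1}) (Z := {z.2}) (X' := {0}) (Z' := {Fin.last n})
        (disjoint_singleton.2 fun e => h1 (by rw [e])) (disjoint_singleton.2 h0) rfl rfl
      simp only [mem_singleton] at p1 p2
      refine ⟨⟨π, Or.inl (funext fun x => ?_)⟩, ?_⟩
      · simp only [f, Function.comp_apply, Pi.add_apply, Pi.sub_apply, ev, p1, p2]
      · rw [add_sub_add_left_eq_sub, ps_sub, ps_sub, ps_sub]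
        simp only [Pi.sub_apply, ps_ev, Fin.val_zero, Fin.val_last]
        omega

theorem Lb.mono {m : Fin (n + 1) → ℤ} {κ : Fin n} {c c' : ℕ} (h : Lb m κ c) (h' : c' ≤ c) : Lb m κ c' := by
  obtain ⟨A, h1, h2⟩ := h
  exact ⟨A, h'.trans h1, h2⟩

theorem lb_two {m : Fin (n + 1) → ℤ} (hm : Antitone m) (κ : Fin n) (h : 2 ≤ lvl m κ) :
    Lb m κ ((κ + 1) * (n - κ) + 1) := by
  classical
  by_cases h1 : Adj m
  · refine (lb_adj h1 κ).mono ?_
    obtain ⟨t, ht⟩ : ∃ t, n = κ + 1 + t := ⟨n - κ - 1, by omega⟩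
    rw [show n - κ = t + 1 by omega]
    generalize (κ : ℕ) = s at ht ⊢
    subst ht
    refine Nat.succ_le_succ (Nat.le_sub_of_add_le ?_)
    nlinarith
  obtain ⟨A, a1, a2⟩ := fam1 hm κ h fun e => h1 e.1
  refine ⟨insert (m ∘ rv n) A, ?_, fun u hu => ?_⟩
  · rw [card_insert_of_notMem fun e => by have := (a2 _ e).2; unfold lvl at h; omega, a1]
  · rcases mem_insert.1 hu with rfl | hu
    · exact ⟨gd_rv m, by unfold lvl at h; omega⟩
    · exact ⟨(a2 u hu).1, by rw [(a2 u hu).2]; omega⟩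

theorem sq_sub (m : Fin (n + 1) → ℤ) {a b : Fin (n + 1)} (h : a ≠ b) :
    ∑ x, (m - ev a + ev b) x ^ 2 = ∑ x, m x ^ 2 - 2 * m a + 2 * m b + 2 := by
  have h1 : ∀ x, (m - ev a + ev b) x ^ 2 = m x ^ 2 - 2 * (m x * ev a x) + 2 * (m x * ev b x) + ev a x + ev b x := by
    intro x
    simp only [Pi.add_apply, Pi.sub_apply, ev]
    split_ifs with h1 h2
    · exact (h (h1.symm.trans h2)).elim
    all_goals ring
  simp only [h1, sum_add_distrib, sum_sub_distrib, ← mul_sum, sum_mul_ev, sum_ev]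
  ring

theorem not_perm {m : Fin (n + 1) → ℤ} {a b : Fin (n + 1)} (h : m b + 2 ≤ m a) (π : Equiv.Perm (Fin (n + 1))) :
    m - ev a + ev b ≠ m ∘ π := fun e => by
  have h1 := sq_sub m (a := a) (b := b) fun e => by rw [e] at h; omega
  rw [e, show ∑ x, (m ∘ π) x ^ 2 = ∑ x, m x ^ 2 from Equiv.sum_comp π fun x => m x ^ 2] at h1
  omega

theorem lb_end {m : Fin (n + 1) → ℤ} (hm : Antitone m) (κ : Fin n) (h : 2 ≤ lvl m κ) (hκ : (κ : ℕ) = 0 ∨ (κ : ℕ) + 1 = n)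
    {a b : Fin (n + 1)} (ha : 1 ≤ (a : ℕ)) (hb : (b : ℕ) < n) (hab : m b + 2 ≤ m a) :
    Lb m κ (2 * ((κ + 1) * (n - κ)) + 1) := by
  classical
  have hlt : (a : ℕ) < b := by
    by_contra e
    have := hm (show b ≤ a from not_lt.1 e)
    omega
  have hab' : (m ∘ rv n) (rv n b) + 2 ≤ (m ∘ rv n) (rv n a) := by simpa only [Function.comp_apply, rv_rv] using hab
  obtain ⟨A, a1, a2⟩ := fam1 hm κ h fun e => by omega
  obtain ⟨B, b1, b2⟩ := orb_blocks (m ∘ rv n) κ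
    (hκ.elim (fun e => Or.inl (by rw [card_ini (by omega)]; omega)) fun e => Or.inr ⟨rv n a,
      mem_ini.2 (by rw [rv_val]; omega), rv n b, mem_ini.2 (by rw [rv_val]; omega), by omega⟩)
    (hκ.elim (fun e => Or.inr ⟨rv n a, mem_fns.2 (by rw [rv_val]; omega), rv n b, mem_fns.2 (by rw [rv_val]; omega),
      by omega⟩) fun e => Or.inl (by rw [card_fns (by omega)]; omega))
  have b3 : ∀ u ∈ B, ps (m - u) κ = lvl m κ := fun u hu => by
    rw [lvl, ps_sub, ps_sub, Pi.sub_apply, Pi.sub_apply, (b2 u hu).1]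
  have c1 : ps (m - (m ∘ rv n - ev (rv n a) + ev (rv n b))) κ = lvl m κ := by
    simp only [lvl, ps_sub, ps_add, Pi.sub_apply, Pi.add_apply, ps_ev, rv_val]
    omega
  refine ⟨insert (m ∘ rv n - ev (rv n a) + ev (rv n b)) (A ∪ B), ?_, fun u hu => ?_⟩
  · rw [card_insert_of_notMem, card_union_lev (fun u => ps (m - u) κ) (s := 1) (t := lvl m κ) (by omega)
      (fun u hu => (a2 u hu).2) b3, a1, b1]
    · omega
    · rw [mem_union]
      rintro (e | e)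
      · have := (a2 _ e).2; omega
      · obtain ⟨π, e⟩ := (b2 _ e).2
        exact not_perm hab' π e
  · rw [mem_insert, mem_union] at hu
    rcases hu with rfl | hu | hu
    · exact ⟨Gd.of_comp (ρ := rv n) ⟨1, Or.inr ⟨_, _, by omega, rfl⟩⟩, by omega⟩
    · exact ⟨(a2 u hu).1, by rw [(a2 u hu).2]; omega⟩
    · obtain ⟨π, e⟩ := (b2 u hu).2
      exact ⟨Gd.of_comp (ρ := rv n) ⟨π, Or.inl e⟩, by rw [b3 u hu]; omega⟩

namespace IsA

variable {R : RC (Fin n) (Pos n)} {p : ℕ} {k L : Type} [Field k] [AddCommGroup L] [Module k L] (hR : IsA R)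
  (H : HW R p k L)
include hR

theorem dep_le_lv {μ : Fin n → ℤ} (h : H.IsWt μ) (κ : Fin n) : H.dep μ κ ≤ lv H.lam κ := by
  obtain ⟨l, h1⟩ := hR.exists_swl (rv n)
  have h2 := H.dep_le_low (l := l) (fun i => by
    rw [← tw_m0, h1, ← tw_neg]; exact sub_nonneg.2 (anti_rv (m0_anti H) Fin.castSucc_lt_succ.le)) h κ
  rwa [← tw_m0, h1, hR.dep_tw H (sum_comp _ _), ← lvl, lvl_m0] at h2

variable [Fact p.Prime] [CharP k p]

theorem isWt_sub {m : Fin (n + 1) → ℤ} (h : H.Ext (tw m)) {a b : Fin (n + 1)} (hab : m b < m a) :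
    H.IsWt (tw (m - ev a + ev b)) := by
  have h0 : a ≠ b := fun e => by rw [e] at hab; omega
  have h1 : m - ev a + ev b = m - (ev a - ev b) := by abel
  rw [h1, tw_sub]
  rcases lt_or_gt_of_ne h0 with h2 | h2
  · rw [← hR.wt_true ⟨(a, b), h2⟩]
    exact (hR.x H).isWt_sub h (by rw [hR.pair_tw]; exact sub_pos.2 hab)
  · rw [← hR.wt_false ⟨(b, a), h2⟩]
    exact (hR.x H).isWt_sub h (by rw [hR.pair_tw']; exact sub_pos.2 hab)

theorem isWt_gd {u : Fin (n + 1) → ℤ} (h : Gd (m0 H) u) : H.IsWt (tw u) := by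
  obtain ⟨π, rfl | ⟨a, b, h, rfl⟩⟩ := h
  · exact (hR.ext_perm H π).isWt
  · exact (hR.isWt_perm H _ π).2 (hR.isWt_sub H (hR.ext_perm H 1) h)

theorem le_cL_MM {κ : Fin n} {c : ℕ} (h : Lb (m0 H) κ c) : c ≤ H.cL (MM κ) := by
  classical
  obtain ⟨A, h1, h2⟩ := h
  rw [← card_image_of_injOn (f := tw) fun u hu u' hu' e =>
    tw_inj e ((h2 u hu).1.sum.trans (h2 u' hu').1.sum.symm)] at h1
  refine h1.trans (H.card_le_cL_smith (hR.mem_MM' κ) _ fun μ hμ => ?_)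
  obtain ⟨u, hu, rfl⟩ := mem_image.1 hμ
  exact ⟨hR.isWt_gd H (h2 u hu).1, κ, rfl, by rw [hR.dep_tw H (h2 u hu).1.sum]; exact (h2 u hu).2⟩

theorem cL_two {κ : Fin n} (h : 2 ≤ lv H.lam κ) : (κ + 1) * (n - κ) + 1 ≤ H.cL (MM κ) :=
  hR.le_cL_MM H (lb_two (m0_anti H) κ (by rw [lvl_m0]; exact_mod_cast h))

theorem cL_three {κ : Fin n} (h : 3 ≤ lv H.lam κ) : 2 * ((κ + 1) * (n - κ)) + 1 ≤ H.cL (MM κ) :=
  hR.le_cL_MM H (lb_three (m0_anti H) κ (by rw [lvl_m0]; exact_mod_cast h))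

end IsA

end Cfsg.Agent.TwoF.DC.TA
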