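import Cfsg.Agent.TwoF.DC.TA.Cg

/-!
# TwoF, defining characteristic, type `A_n` (10): `CTG`, `BoxComb` (helper97)
-/

set_option autoImplicit false
set_option linter.unusedSectionVars false

namespace Cfsg.Agent.TwoF.DC.TA

open Finset Module
open Cfsg.Agent.H356.TA (Pos)

theorem adj_num {n a b r c : ℕ} (hn : 3 ≤ n) (h1 : n * (a + b) + 1 ≤ c + a * b) (h2 : c ≤ 2 * r + 2) (h3 : r ≤ a * b)
    (h4 : a + b ≤ n + 1) (h5 : 1 ≤ r) : n = 3 ∧ 4 ≤ r := by
  have ha : 1 ≤ a := Nat.pos_of_ne_zero fun e => by rw [e] at h3; omega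
  have hb : 1 ≤ b := Nat.pos_of_ne_zero fun e => by rw [e] at h3; omega
  by_cases h : 5 ≤ a + b
  · exfalso
    have h6 : (a + b) * (a + b) ≤ (n + 1) * (a + b) := Nat.mul_le_mul_right _ h4
    have h7 : 5 * (a + b) ≤ (a + b) * (a + b) := Nat.mul_le_mul_right _ h
    nlinarith [sq_nonneg ((a : ℤ) - b)]
  · have : a ≤ 3 := by omega
    have : b ≤ 3 := by omega
    interval_cases a <;> interval_cases b <;> omega

variable {n : ℕ}

theorem sameCycle_fl {o b : Pos n} : (fl n).SameCycle o b ↔ b = o ∨ b = fl n o := by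
  refine ⟨fun ⟨i, h⟩ => ?_, fun h => h.elim (fun e => e ▸ .refl _ _) fun e => ⟨1, by rw [zpow_one, e]⟩⟩
  have h2 : fl n ^ (2 : ℤ) = 1 := by rw [zpow_two]; exact Equiv.ext fl_fl
  obtain ⟨j, rfl | rfl⟩ := Int.even_or_odd' i
  · rw [zpow_mul, h2, one_zpow] at h; exact Or.inl h.symm
  · rw [zpow_add, zpow_mul, h2, one_zpow, one_mul, zpow_one] at h; exact Or.inr h.symm

section mod

variable {R : RC (Fin n) (Pos n)} {p : ℕ} {k L : Type} [Field k] [AddCommGroup L] [Module k L] {H : HW R p k L}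

theorem ops_of {O : Finset (Pos n)} {u : Pos n → Pos n → k} (h1 : ∀ o ∈ O, ∀ o' ∈ O, (fl n).SameCycle o o' → o = o')
    (h2 : ∀ o ∈ O, ∀ b, u o b ≠ 0 ↔ (fl n).SameCycle o b) (h3 : ∀ o ∈ O, ∀ o' ∈ O, Commute (H.op (u o)) (H.op (u o'))) :
    Ops H {f | ∃ o ∈ O, f = H.op (u o)} (O.filter fun o => fl n o = o) (O.filter fun o => ¬ fl n o = o) where
  comm := by rintro _ ⟨o, ho, rfl⟩ _ ⟨o', ho', rfl⟩; exact h3 o ho o' ho'
  S_fl b hb := by rwa [(mem_filter.1 hb).2]
  S_op b hb := by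
    obtain ⟨hb, e⟩ := mem_filter.1 hb
    refine ⟨u b b, (h2 b hb b).2 (.refl _ _), b, hb,
      (sum_eq_single (f := fun c => u b c • H.E (true, c) 1) b (fun c _ hc => ?_) fun h => (h (mem_univ _)).elim).symm⟩
    rw [not_not.1 (mt (h2 b hb c).1 (by rw [sameCycle_fl, e]; simpa using hc)), zero_smul]
  O_ne o ho := by
    obtain ⟨ho, e⟩ := mem_filter.1 ho
    exact ⟨fun e' => e (mem_filter.1 e').2, e, fun e' => e (h1 o ho _ (mem_filter.1 e').1 (sameCycle_fl.2 (Or.inr rfl))).symm⟩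
  O_op o ho := by
    obtain ⟨ho, e⟩ := mem_filter.1 ho
    refine ⟨u o o, u o (fl n o), (h2 o ho o).2 (.refl _ _), (h2 o ho _).2 (sameCycle_fl.2 (Or.inr rfl)), o, ho, ?_⟩
    rw [HW.op, ← sum_pair (f := fun b => u o b • H.E (true, b) 1) (Ne.symm e)]
    refine sum_subset (subset_univ _) fun c _ hc => ?_
    rw [not_not.1 (mt (h2 o ho c).1 (by rw [sameCycle_fl]; simpa using hc)), zero_smul]

variable (hR : IsA R) [Fact p.Prime] [CharP k p]
include hR

theorem IsA.card_le_ab {S : Finset (Pos n)} (hA : R.Ab p S) :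
    S.card ≤ (S.image fun b => b.1.1).card * (S.image fun b => b.1.2).card ∧
      (S.image fun b => b.1.1).card + (S.image fun b => b.1.2).card ≤ n + 1 := by
  refine ⟨card_le_mul fun b hb => ⟨mem_image_of_mem _ hb, mem_image_of_mem _ hb⟩, ?_⟩
  rw [← card_union_of_disjoint]
  · exact (card_le_univ _).trans (by rw [Fintype.card_fin])
  refine disjoint_left.2 fun a h1 h2 => ?_
  obtain ⟨b, hb, rfl⟩ := mem_image.1 h1
  obtain ⟨b', hb', e⟩ := mem_image.1 h2
  exact (hR.ab_iff (Fact.out : p.Prime).ne_one S).1 hA b' hb' b hb e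

theorem IsA.cg_inv (hn : 2 ≤ n) (hp : p = 2) (h : H.lam ∘ (Fin.revPerm : Equiv.Perm (Fin n)).symm = H.lam)
    (g : H.GOp Fin.revPerm (fl n)) {X : Set (Module.End k L)} {S0 O : Finset (Pos n)} (ho : Ops H X S0 O)
    (hS : ∀ b ∈ S0, fl n b = b) (hX : ∀ f ∈ X, f ^ p = 0) {N : Submodule k L} (hN : ∀ f ∈ X, N ≤ LinearMap.ker f)
    {S : Finset (Pos n)} (hc : S.card = S0.card + O.card) (hA : R.Ab p S) (hI : R.Idl p S)
    (hk : finrank k N ≤ finrank k (H.kerL S))
    (hb : H.d - finrank k ↥(LinearMap.ker (g.g.toLinearMap - 1) ⊓ N) ≤ 2 * S.card + 2) : n = 3 ∧ Sg H.lam 1 := by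
  have := H.fd
  have h' : ∀ i : Fin n, H.lam i.rev = H.lam i := fun i => congrFun h i
  have f1 := Submodule.finrank_mono (inf_le_left : LinearMap.ker (g.g.toLinearMap - 1) ⊓ N ≤ _)
  have f2 := Submodule.finrank_mono (inf_le_right : LinearMap.ker (g.g.toLinearMap - 1) ⊓ N ≤ _)
  have f3 := H.cL_add S
  have f4 := hR.card_le_sq hA hI
  have th : S.card ≠ 0 → hi (by omega) ∈ S := fun e => hR.hi_mem _ (card_ne_zero.1 e) hI
  by_cases hA' : ∃ i : Fin n, H.lam i ≠ 0 ∧ 2 * (i : ℕ) + 1 < n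
  · exfalso
    obtain ⟨i, h1, h2⟩ := hA'
    have h3 : H.lam i.rev ≠ 0 := by rwa [h']
    by_cases n2 : n = 2
    · subst n2
      obtain rfl : i = 0 := Fin.ext (by omega)
      obtain ⟨a1, v, a2, a3⟩ := fix_two hR hp (funext fun j => by
        have := H.lam_lt 0
        have := h' 0
        fin_cases j
        · show H.lam 0 = 1; omega
        · show H.lam (Fin.rev 0) = 1; omega) g
      obtain ⟨l, b1, b2, b3, -, b5, -⟩ := hR.deg_low hp ho hS hX hN _ gen2 cg2
      simp only [b3, Bool.not_true, Bool.false_or, Bool.or_eq_true, beq_iff_eq, Bool.and_eq_true,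
        List.contains_iff_mem] at b1
      rcases b1 with e | ⟨e, e'⟩
      · omega
      obtain ⟨x, hx, c1⟩ := ho.S_op _ (b5 (hi one_le_two) e' (by decide))
      have c2 := hR.adj_cL (H := H) le_rfl rfl h1 h3 (S := {hi one_le_two}) (mem_singleton_self _)
      have c3 := H.cL_add {hi one_le_two}
      have c4 := Submodule.finrank_lt_finrank_of_lt (show LinearMap.ker (g.g.toLinearMap - 1) ⊓ N < H.kerL {hi one_le_two} from
        lt_of_le_of_ne (fun w hw => H.mem_kerL.2 fun b hb => by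
          rw [mem_singleton.1 hb]; exact (smul_eq_zero.1 (hN _ c1 hw.2)).resolve_left hx) fun e => by
          have c5 : v ∈ H.kerL {hi one_le_two} := H.mem_kerL.2 fun b hb => by rw [mem_singleton.1 hb]; exact a2
          rw [← e] at c5
          exact a3 (sub_eq_zero.1 (LinearMap.mem_ker.1 c5.1)))
      rw [image_singleton, image_singleton, card_singleton, card_singleton] at c2
      omega
    by_cases r0 : S.card = 0
    · have := hR.fix_three (by omega) h g fun e => by rwa [show i = ⟨0, by omega⟩ from Fin.ext (by simp only; omega)] at h1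
      omega
    by_cases i0 : (i : ℕ) = 0
    · obtain ⟨a1, a2⟩ := hR.card_le_ab hA
      obtain ⟨rfl, a3⟩ := adj_num (by omega) (hR.adj_cL hn i0 h1 h3 (th r0)) (r := S.card) (by omega) a1 a2 (by omega)
      obtain ⟨l, b1, b2, b3, -⟩ := hR.deg_low hp ho hS hX hN _ gen3 cg3
      simp only [b3, Bool.not_true, Bool.false_or, decide_eq_true_iff] at b1
      omega
    have a1 := hR.pair_theta h2 h1 h3 (th r0)
    by_cases n4 : n = 4
    · subst n4
      obtain ⟨l, b1, b2, b3, -⟩ := hR.deg_low hp ho hS hX hN _ gen4 cg4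
      simp only [b3, Bool.not_true, Bool.false_or, decide_eq_true_iff] at b1
      rw [show (i : ℕ) = 1 by omega] at a1
      have : Nat.choose (4 - 1) 1 * Nat.choose (4 - 1) (1 + 1) = 9 := rfl
      omega
    have a2 : 4 * (n - 1).choose 2 ≤ (n - 1).choose i * (n - i).choose (i + 1) := by
      by_cases i1 : (i : ℕ) = 1
      · rw [i1, Nat.choose_one_right]; exact Nat.mul_le_mul_right _ (by omega)
      · have := choose_le_mid (N := n - i) (a := 1) (m := i + 1) (by omega) (by omega)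
        rw [Nat.choose_one_right] at this
        rw [mul_comm]
        exact Nat.mul_le_mul (choose_le_mid (by omega) (by omega)) (by omega)
    obtain ⟨t, rfl⟩ : ∃ t, n = t + 5 := ⟨n - 5, by omega⟩
    have a3 := two_choose_two (t + 3)
    rw [show t + 5 - 1 = t + 3 + 1 by omega] at a1 a2
    have a4 : H.cL S ≤ 2 * S.card + 2 := by omega
    nlinarith
  have hB : ∀ j : Fin n, H.lam j ≠ 0 → 2 * (j : ℕ) + 1 = n := fun j hj => by
    have h1 : ¬ 2 * (j : ℕ) + 1 < n := fun e => hA' ⟨j, hj, e⟩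
    have h2 : ¬ 2 * ((j.rev : Fin n) : ℕ) + 1 < n := fun e => hA' ⟨j.rev, by rwa [h'], e⟩
    rw [Fin.val_rev] at h2
    omega
  obtain ⟨i, h1⟩ := H.exists_lam_pos
  have h2 := hB i h1.ne'
  by_cases i1 : (i : ℕ) = 1
  · refine ⟨by omega, i, i1, funext fun j => ?_⟩
    by_cases e : j = i
    · have := H.lam_lt i
      rw [e, Pi.single_eq_same]; omega
    · rw [Pi.single_eq_of_ne e]
      by_contra e'
      exact e (Fin.ext (by have := hB j e'; omega))
  exfalso
  by_cases r0 : S.card = 0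
  · have := hR.fix_three (by omega) h g fun e => by omega
    omega
  have a1 := hR.choose_theta H (by omega) h1.ne' (th r0)
  rw [show n - 1 = 2 * i by omega] at a1
  by_cases i4 : 4 ≤ (i : ℕ)
  · have := lt_choose_two i4
    have a2 : (n + 1) * (n + 1) = 4 * ((i + 1) * (i + 1)) := by rw [show n + 1 = 2 * (i + 1) by omega]; ring
    omega
  by_cases i3 : (i : ℕ) = 3
  · obtain rfl : n = 7 := by omega
    rw [i3] at a1
    have a2 : Nat.choose (2 * 3) 3 = 20 := rfl
    have hp1 := (Fact.out : p.Prime).ne_one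
    have a3 : (⟨(0, 6), by decide⟩ : Pos 7) ∈ S := by
      by_contra e
      have := card_le_mul (S := S) (A := univ) (B := {7}) fun b hb => ⟨mem_univ _, mem_singleton.2 (by
        by_contra e'
        exact e (hR.idl_mem hp1 hI hb (Fin.zero_le _) (show (b.1.2 : ℕ) ≤ 6 by
          have : (b.1.2 : ℕ) ≠ 7 := fun e => e' (Fin.ext e)
          omega)))⟩
      rw [card_univ, Fintype.card_fin, card_singleton] at this; omega
    have a4 : (⟨(1, 7), by decide⟩ : Pos 7) ∈ S := by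
      by_contra e
      have := card_le_mul (S := S) (A := {0}) (B := univ) fun b hb => ⟨mem_singleton.2 (by
        by_contra e'
        exact e (hR.idl_mem hp1 hI hb (show 1 ≤ (b.1.1 : ℕ) by
          have : (b.1.1 : ℕ) ≠ 0 := fun e => e' (Fin.ext e)
          omega) (Fin.le_last _))), mem_univ _⟩
      rw [card_univ, Fintype.card_fin, card_singleton] at this; omega
    have a5 := hR.cnt_le H h1.ne' (Ts := T7) (fun T hT => by rw [i3]; exact of_decide_eq_true (List.mem_filter.1 hT).2)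
      T7_nodup (S := {hi (by omega), ⟨(0, 6), by decide⟩, ⟨(1, 7), by decide⟩}) (l := [(0, 7), (0, 6), (1, 7)]) fun r => by
        simp only [List.mem_cons, List.not_mem_nil, or_false, mem_insert, mem_singleton, exists_eq_or_imp, exists_eq_left,
          eq_comm (a := r)]
        rfl
    have a6 := H.cL_mono (show ({hi (by omega), ⟨(0, 6), by decide⟩, ⟨(1, 7), by decide⟩} : Finset (Pos 7)) ⊆ S from
      insert_subset (th r0) (insert_subset a3 (singleton_subset_iff.2 a4)))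
    rw [cg7] at a5
    omega
  obtain rfl : n = 5 := by omega
  have i2 : (i : ℕ) = 2 := by omega
  obtain ⟨l, a1, a2, a3, -, a5, a6⟩ := hR.deg_low hp ho hS hX hN _ gen5a cg5a
  obtain ⟨l', b1, b2, b3, -, -, b6⟩ := hR.deg_low hp ho hS hX hN _ gen5b cg5b
  obtain ⟨l'', c1, c2, c3, c4, -, c6⟩ := hR.deg_low hp ho hS hX hN _ gen5c cg5c
  have a7 := a6 i T5 h1.ne' (by rw [i2]; exact T5_card) T5_nodup
  have b7 := b6 i T5 h1.ne' (by rw [i2]; exact T5_card) T5_nodup
  have c7 := c6 i T5 h1.ne' (by rw [i2]; exact T5_card) T5_nodup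
  simp only [a3, b3, Bool.not_true, Bool.false_or, Bool.or_eq_true, beq_iff_eq, decide_eq_true_iff,
    List.contains_iff_mem] at a1 b1
  have d1 : (1, 4) ∈ l'' := c4 ⟨(1, 4), by decide⟩ (a5 _ (a1.resolve_left (by omega)) (by decide))
  simp only [c3, List.contains_iff_mem.2 d1, Bool.not_true, Bool.false_or, Bool.or_eq_true, beq_iff_eq,
    decide_eq_true_iff] at c1
  omega

end mod

theorem sg3 {l : Fin 3 → ℕ} {s t : ℕ} : Sg l s → Sg l t → s = t := by
  rintro ⟨i, rfl, rfl⟩ ⟨j, rfl, e⟩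
  by_contra e'
  have := congrFun e i
  rw [Pi.single_eq_same, Pi.single_eq_of_ne fun e => e' (by rw [e])] at this
  cases this

theorem cls3 : ∀ l : Fin 3 → Fin 2, let l' := fun i => (l i : ℕ)
    l' ∘ (Fin.revPerm : Equiv.Perm (Fin 3)).symm = l' ∨ l' = Pi.single 0 1 ∨ l' = Pi.single 2 1 ∨ 3 ≤ lv l' 1 := by decide

variable {p : ℕ} {k G : Type} [Field k] [Group G] [Fact p.Prime] [CharP k p] [Infinite k] {T S : Type} [Group T]
  [Finite T] [Group S]

theorem StdA.ctg3 {D : RDat p (Fin 3) (Pos 3) k G} {M : Std D T S} (hM : StdA M) (hp : p = 2) (F : Fam D (M.gι M.σ))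
    (hd : ∀ j, F.dbl j = false) {S' : Finset (Pos 3)} (hA : D.R.Ab p S') (hI : D.R.Idl p S') (hr : S'.card ≤ 3)
    (t : F.J → ℕ) (ht : ∑ j, t j ≤ 4 * S'.card + 4) (inv : F.J → Prop) (h0 : ∃ j, inv j)
    (h1 : ∀ j, inv j → Sg (F.H j).lam 1 ∧ 2 ≤ t j ∧ 2 * (F.H j).cL S' ≤ t j)
    (h2 : ∀ j, ¬ inv j → (F.H j).lam ∘ (Fin.revPerm : Equiv.Perm (Fin 3)).symm ≠ (F.H j).lam ∧
      (F.H j).d + (F.H j).cL S' ≤ t j) : M.Q F := by
  classical
  have hR := hM.isA
  obtain ⟨j0, h0⟩ := h0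
  obtain ⟨x, hx, hx'⟩ : ∃ x : ℕ, (∀ j, inv j → x ≤ t j) ∧
      ((S'.card = 0 ∧ x = 2) ∨ (S'.card = 1 ∧ x = 4) ∨ (2 ≤ S'.card ∧ x = 6)) := by
    by_cases e0 : S'.card = 0
    · exact ⟨2, fun j hj => (h1 j hj).2.1, Or.inl ⟨e0, rfl⟩⟩
    by_cases e1 : S'.card = 1
    · refine ⟨4, fun j hj => ?_, Or.inr (Or.inl ⟨e1, rfl⟩)⟩
      obtain ⟨i, a1, a2⟩ := (h1 j hj).1.ne
      have a3 := hR.choose_theta _ (by omega) a2 (hR.hi_mem _ (card_ne_zero.1 e0) hI)
      have a4 := (h1 j hj).2.2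
      rw [a1, Nat.choose_one_right] at a3; omega
    · refine ⟨6, fun j hj => ?_, Or.inr (Or.inr ⟨by omega, rfl⟩)⟩
      obtain ⟨i, a1, a2⟩ := (h1 j hj).1.ne
      obtain ⟨l, b1, b2, b3⟩ := go_fin S' ((hR.ab_iff (Fact.out : p.Prime).ne_one S').1 hA) bg3
      have b4 := hR.cnt_le _ a2 (by rw [a1]; exact T3_card) T3_nodup b3
      have a4 := (h1 j hj).2.2
      simp only [Bool.or_eq_true, decide_eq_true_iff] at b1
      omega
  have c1 : ∀ j, S'.card ≠ 0 → 1 ≤ (F.H j).cL S' :=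
    fun j e => (F.H j).one_le_cL' (card_ne_zero.1 e) fun b => hR.E_ne _ (true, b)
  have cl : ∀ j, ¬ inv j → Sg (F.H j).lam 0 ∨ Sg (F.H j).lam 2 := fun j hj => by
    rcases cls3 fun i => ⟨(F.H j).lam i, hp ▸ (F.H j).lam_lt i⟩ with e | e | e | e
    · exact ((h2 j hj).1 e).elim
    · exact Or.inl ⟨0, rfl, e⟩
    · exact Or.inr ⟨2, rfl, e⟩
    exfalso
    have a1 := hR.cL_three (F.H j) (κ := 1) e
    have a2 := (F.H j).cL_lt_d (MM 1)
    have a3 := sum_le_sum_of_subset (f := t) (subset_univ {j0, j})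
    rw [sum_pair (show j0 ≠ j from fun e => hj (e ▸ h0))] at a3
    have a4 := (h2 j hj).2
    have a5 := hx j0 h0
    have a6 := c1 j
    have a7 : ((1 : Fin 3) + 1 : ℕ) * (3 - (1 : Fin 3)) = 4 := rfl
    omega
  have both : ∀ j j', Sg (F.H j).lam 0 → Sg (F.H j').lam 2 → False := fun j j' e e' => by
    have n1 : ¬ inv j := fun c => by have := sg3 e (h1 j c).1; omega
    have n2 : ¬ inv j' := fun c => by have := sg3 e' (h1 j' c).1; omega
    have n3 : j ≠ j' := by rintro rfl; have := sg3 e e'; omega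
    have a3 := sum_le_sum_of_subset (f := t) (subset_univ {j0, j, j'})
    rw [sum_insert (by rw [mem_insert, mem_singleton]; rintro (rfl | rfl); exacts [n1 h0, n2 h0]), sum_pair n3] at a3
    obtain ⟨i, b1, b2⟩ := e.ne
    obtain ⟨i', b3, b4⟩ := e'.ne
    have a1 := hR.nat_le_cL _ b1 b2 S'
    have a2 := hR.dual_le_cL _ b3 b4 S'
    have a4 := (h2 j n1).2
    have a5 := (h2 j' n2).2
    have a6 := hR.succ_le_d (F.H j)
    have a7 := hR.succ_le_d (F.H j')
    have a8 := hx j0 h0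
    have a9 := (hR.card_le_ab hA).1
    generalize (S'.image fun b => b.1.1).card = α at a2 a9
    generalize (S'.image fun b => b.1.2).card = β at a1 a9
    have a10 : α ≤ 3 := by omega
    have a11 : β ≤ 3 := by omega
    interval_cases α <;> interval_cases β <;> omega
  obtain ⟨A, B, mA, mB, hs⟩ : ∃ A B : Finset F.J, (∀ j, j ∈ A ↔ inv j) ∧ (∀ j, j ∈ B ↔ ¬ inv j) ∧
      ∀ f : F.J → ℕ, ∑ j, f j = ∑ j ∈ A, f j + ∑ j ∈ B, f j :=
    ⟨univ.filter inv, univ.filter fun j => ¬ inv j, by simp, by simp, fun f => (sum_filter_add_sum_filter_not _ _ f).symm⟩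
  have lo : ∀ (s : Finset F.J) (f : F.J → ℕ) c, (∀ j ∈ s, c ≤ f j) → s.card * c ≤ ∑ j ∈ s, f j := card_nsmul_le_sum
  have up : ∀ (s : Finset F.J) (f : F.J → ℕ) c, (∀ j ∈ s, f j ≤ c) → ∑ j ∈ s, f j ≤ s.card * c := sum_le_card_nsmul
  have cnt2 : 1 ≤ A.card := card_pos.2 ⟨j0, (mA _).2 h0⟩
  have cnt3 : 3 * A.card + B.card ≤ 6 := by
    have a1 := lo A t x fun j hj => hx j ((mA j).1 hj)
    have a2 := lo B t 4 fun j hj => by have := (h2 j ((mB j).1 hj)).2; have := hR.succ_le_d (F.H j); omega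
    have a3 : S'.card ≠ 0 → _ := fun e => lo B t 5 fun j hj => by
      have := (h2 j ((mB j).1 hj)).2; have := hR.succ_le_d (F.H j); have := c1 j e; omega
    have a4 := hs t
    rcases hx' with ⟨e, rfl⟩ | ⟨e, rfl⟩ | ⟨e, rfl⟩ <;> omega
  rcases hM.gr M.σ with e | ⟨-, e, -⟩
  · have key : ∀ κ : Fin 3, ((κ : ℕ) + 1) * (3 - κ) = 3 → (∀ j, inv j → (F.H j).cG (MM κ) ≤ 3) →
        (∀ j, ¬ inv j → (F.H j).cG (MM κ) ≤ 1) → M.Q F := fun κ a1 a2 a3 => hM.good e (κ := κ) (by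
      rw [← valG_MM F hR, card_MM, a1, Fam.valG, hs]
      refine (add_le_add (up _ _ 6 fun j hj => ?_) (up _ _ 2 fun j hj => ?_)).trans (by omega)
      · have := a2 j ((mA j).1 hj)
        rw [hd j, if_neg (by simp)]; omega
      · have := a3 j ((mB j).1 hj)
        rw [hd j, if_neg (by simp)]; omega)
    have l1 : ∀ j, inv j → (F.H j).lam = Pi.single 1 1 := fun j hj => by
      obtain ⟨i, a1, a2⟩ := (h1 j hj).1
      rwa [show i = 1 from Fin.ext a1] at a2
    by_cases e' : ∃ j, Sg (F.H j).lam 0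
    · obtain ⟨j', e'⟩ := e'
      refine key 2 rfl (fun j hj => hR.cG_single_le _ (l1 j hj) _ {{0, 3}, {1, 3}, {2, 3}} (by decide)) fun j hj => ?_
      exact (hR.cG_nat _ ((cl j hj).resolve_right (both j' j e')) _).trans (by rw [image_snd_MM hR]; rfl)
    · refine key 0 rfl (fun j hj => hR.cG_single_le _ (l1 j hj) _ {{1, 2}, {1, 3}, {2, 3}} (by decide)) fun j hj => ?_
      exact (hR.cG_dual _ ((cl j hj).resolve_left fun c => e' ⟨j, c⟩) _).trans (by rw [image_fst_MM hR]; rfl)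
  · have all : ∀ j, inv j := fun j => by
      by_contra c
      have a1 := (F.lam_π j).trans (congrArg (fun π : Equiv.Perm (Fin 3) => (F.H j).lam ∘ π.symm) e)
      rcases cl j c with b | b
      · exact both j _ b (a1 ▸ b.rev)
      · exact both _ j (a1 ▸ b.rev) b
    refine Or.inr (goodT3 hR hp F hd (by rw [eq_univ_of_forall fun j => (mA j).2 (all j), card_univ] at cnt3; omega)
      (fun j => (h1 j (all j)).1) M.f_pos ((sub3'_iff _ _ _).1 (hM.sub hp fun c => ?_)))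
    rw [c, map_one] at e
    exact absurd e (by decide)

variable {D : RDat p (Fin n) (Pos n) k G} {M : Std D T S} (hM : StdA M)
include hM

theorem StdA.ctg (hn : 2 ≤ n) (hp : p = 2) : CTG D (M.gι M.σ) Fin.revPerm (fl n) M.Q := by
  classical
  intro F hd g h0 _ O u h1 h2 h3 h4 _ S' h6 hA hI h7 h8
  have hR := hM.isA
  have ops := fun j => ops_of (H := F.H j) h1 h2 (h3 j)
  have hS : ∀ b ∈ O.filter fun o => fl n o = o, fl n b = b := fun b hb => (mem_filter.1 hb).2
  have hX : ∀ j, ∀ f ∈ {f | ∃ o ∈ O, f = (F.H j).op (u o)}, f ^ p = 0 := by rintro j _ ⟨o, ho, rfl⟩; exact h4 j o ho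
  have hN : ∀ j, ∀ f ∈ {f | ∃ o ∈ O, f = (F.H j).op (u o)}, ⨅ o ∈ O, LinearMap.ker ((F.H j).op (u o)) ≤ LinearMap.ker f := by
    rintro j _ ⟨o, ho, rfl⟩; exact iInf₂_le o ho
  have hc : S'.card = (O.filter fun o => fl n o = o).card + (O.filter fun o => ¬ fl n o = o).card := by
    rw [card_filter_add_card_filter_not, h6]
  rw [← h6] at h8
  have one := fun j => (single_le_sum (fun _ _ => Nat.zero_le _) (mem_univ j)).trans h8
  have inv : ∀ j, (F.H j).lam ∘ (Fin.revPerm : Equiv.Perm (Fin n)).symm = (F.H j).lam → n = 3 ∧ Sg (F.H j).lam 1 :=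
    fun j hj => hR.cg_inv hn hp hj (g j hj) (ops j) hS (hX j) (hN j) hc hA hI (h7 j) (by
      have := one j; rw [dif_pos hj] at this; omega)
  obtain ⟨j0, h0⟩ := h0
  obtain rfl := (inv j0 h0).1
  obtain ⟨l, b1, b2, b3, -⟩ := hR.deg_low hp (ops j0) hS (hX j0) (hN j0) _ gen3 cg3
  simp only [b3, Bool.not_true, Bool.false_or, decide_eq_true_iff] at b1
  refine hM.ctg3 hp F hd hA hI (by omega) _ h8 _ ⟨j0, h0⟩ (fun j hj => ?_) fun j hj => ⟨hj, ?_⟩
  · have := (F.H j).fd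
    have f1 := Submodule.finrank_mono (inf_le_left : LinearMap.ker ((g j hj).g.toLinearMap - 1) ⊓
      ⨅ o ∈ O, LinearMap.ker ((F.H j).op (u o)) ≤ _)
    have f2 := Submodule.finrank_mono (inf_le_right : LinearMap.ker ((g j hj).g.toLinearMap - 1) ⊓
      ⨅ o ∈ O, LinearMap.ker ((F.H j).op (u o)) ≤ _)
    have f3 := (F.H j).cL_add S'
    have f4 := hR.fix_one hn hj (g j hj)
    have f5 := h7 j
    rw [dif_pos hj]
    exact ⟨(inv j hj).2, by omega, by omega⟩
  · have f3 := (F.H j).cL_add S'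
    have f5 := h7 j
    rw [dif_neg hj]
    omega

theorem StdA.two {γ : M.Gr} (h1 : γ ≠ 1) (h2 : γ ^ p = 1) :
    2 ≤ n ∧ p = 2 ∧ M.gι γ = Fin.revPerm ∧ M.gΦ γ = fl n := by
  obtain ⟨hn, e1, e2⟩ := (hM.gr γ).resolve_left h1
  refine ⟨hn, ?_, e1, e2⟩
  by_contra hp
  obtain ⟨j, hj⟩ := (Fact.out : p.Prime).odd_of_ne_two hp
  have h3 : γ ^ 2 = 1 := M.gι_inj (by rw [map_pow, e1, map_one, sq]; exact Equiv.ext Fin.rev_rev)
  rw [show γ ^ p = γ ^ (2 * j + 1) by rw [← hj], pow_succ, pow_mul, h3, one_pow, one_mul] at h2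
  exact h1 h2

theorem StdA.full (hn : 1 ≤ n) : M.Full fun _ => True where
  aut := hM.aut
  ex := ⟨fun _ => 1, fun _ => (Fact.out : p.Prime).one_lt, fun e => one_ne_zero (congrFun e ⟨0, hn⟩), trivial⟩
  ok_gr _ _ _ := trivial
  faith := faithA hM.isA p k _
  ct := hM.ct
  bg γ h1 h2 _ := by obtain ⟨a, -, e, -⟩ := hM.two h1 h2; rw [e]; exact hM.isA.bg a k
  ctg γ h1 h2 _ := by obtain ⟨a, b, e, e'⟩ := hM.two h1 h2; rw [e, e']; exact hM.ctg a b
  ctf := hM.ctf hn
  eight := by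
    rintro ⟨γ, γ', h⟩
    rcases hM.gr γ with rfl | ⟨-, e, -⟩
    · exact (h (Commute.one_left _)).elim
    rcases hM.gr γ' with rfl | ⟨-, e', -⟩
    · exact (h (Commute.one_right _)).elim
    rw [M.gι_inj (e.trans e'.symm)] at h
    exact (h (Commute.refl _)).elim

omit hM in
/-- **the combinatorics of type `A_n`** -/
theorem boxComb : BoxComb := fun _ _ _ _ _ _ _ _ _ _ _ _ _ _ _ _ hn hM => hM.full hn

end Cfsg.Agent.TwoF.DC.TA
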