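import Cfsg.Agent.TwoF.DC.TA.Main
import Cfsg.Agent.TwoF.DC.TA.I.SU
import Cfsg.Agent.TwoF.DC.Close
import Cfsg.Agent.TwoF.DC.Pow.Main

/-!
# TwoF, defining characteristic, type `A_n` (11): the rows `PSL`, `PSU` (helper97)
-/

set_option autoImplicit false

namespace Cfsg.Agent.TwoF.DC.TA

theorem tbox_psl (h : BoxStd) : TBox fun p S _ => IsPSLChar p S :=
  fun p _ S _ _ _ hS => row_psl h boxComb I.boxL p S hS

theorem tbox_psu (h : BoxStd) : TBox fun p S _ => IsPSUChar p S :=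
  fun p _ S _ _ _ hS => row_psu h boxComb I.boxU p S hS

theorem psl : TBox fun p S _ => IsPSLChar p S := tbox_psl (boxStd_pow Pw.boxPow)

theorem psu : TBox fun p S _ => IsPSUChar p S := tbox_psu (boxStd_pow Pw.boxPow)

end Cfsg.Agent.TwoF.DC.TA
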