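import Cfsg.Agent.TwoF.DC.HW.Deg
import Cfsg.Agent.H356.TA.GD

/-!
# TwoF, defining characteristic, type `A_n` (1): root combinatorics, weights as vectors (helper97)

`tw m` is the weight of a vector `m : Fin (n + 1) → ℤ`; `RA n : RC (Fin n) (Pos n)`; `IsA R` : `R` is of type `A_n`.
-/

set_option autoImplicit false
set_option linter.unusedSectionVars false

namespace Cfsg.Agent.TwoF.DC.TA

open Finset
open Cfsg.Agent.H356.TA (Pos)

variable {n : ℕ}

/-- the coefficients of a positive root -/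
def cfA (b : Pos n) (j : Fin n) : ℕ := if (b.1.1 : ℕ) ≤ j ∧ (j : ℕ) < b.1.2 then 1 else 0
/-- the Cartan matrix -/
def CA (i j : Fin n) : ℤ := if (i : ℕ) = j then 2 else if (i : ℕ) + 1 = j ∨ (j : ℕ) + 1 = i then -1 else 0
/-- the simple roots -/
def zA (i : Fin n) : Pos n := ⟨(i.castSucc, i.succ), Fin.castSucc_lt_succ⟩
/-- the simple reflections -/
def sp (i : Fin n) : Equiv.Perm (Fin (n + 1)) := Equiv.swap i.castSucc i.succ
/-- the simple reflections on positive roots -/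
def sA (i : Fin n) (b : Pos n) : Pos n := if h : sp i b.1.1 < sp i b.1.2 then ⟨(sp i b.1.1, sp i b.1.2), h⟩ else b
/-- the weight of a vector -/
def tw (m : Fin (n + 1) → ℤ) : Fin n → ℤ := fun i => m i.castSucc - m i.succ
/-- unit vectors -/
def ev (a : Fin (n + 1)) : Fin (n + 1) → ℤ := fun x => if x = a then 1 else 0
/-- partial sums -/
def ps (m : Fin (n + 1) → ℤ) (j : Fin n) : ℤ := ∑ a : Fin (n + 1), if (a : ℕ) ≤ j then m a else 0
/-- an element of the root lattice as a vector -/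
def bd (c : Fin n → ℤ) : Fin (n + 1) → ℤ := ∑ j, c j • (ev j.castSucc - ev j.succ)

theorem pos_lt (b : Pos n) : (b.1.1 : ℕ) < b.1.2 := b.2

theorem pos_ext {b b' : Pos n} (h1 : (b.1.1 : ℕ) = b'.1.1) (h2 : (b.1.2 : ℕ) = b'.1.2) : b = b' :=
  Subtype.ext (Prod.ext (Fin.ext h1) (Fin.ext h2))

theorem zA_fst (i : Fin n) : ((zA i).1.1 : ℕ) = i := rfl
theorem zA_snd (i : Fin n) : ((zA i).1.2 : ℕ) = i + 1 := rfl

theorem sp_val (i : Fin n) (a : Fin (n + 1)) :
    ((sp i a : Fin (n + 1)) : ℕ) = if (a : ℕ) = i then (i : ℕ) + 1 else if (a : ℕ) = i + 1 then (i : ℕ) else a := by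
  unfold sp
  rw [Equiv.swap_apply_def]
  by_cases h1 : (a : ℕ) = i
  · rw [if_pos (Fin.ext h1), if_pos h1]; rfl
  · rw [if_neg (fun e => h1 (congrArg Fin.val e)), if_neg h1]
    by_cases h2 : (a : ℕ) = i + 1
    · rw [if_pos (Fin.ext h2), if_pos h2]; rfl
    · rw [if_neg (fun e => h2 (congrArg Fin.val e)), if_neg h2]

theorem sp_sp (i : Fin n) (a : Fin (n + 1)) : sp i (sp i a) = a := Equiv.swap_apply_self _ _ _

theorem sp_lt {i : Fin n} {b : Pos n} (h : b ≠ zA i) : sp i b.1.1 < sp i b.1.2 := by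
  have h1 := pos_lt b
  have h2 : ¬ ((b.1.1 : ℕ) = i ∧ (b.1.2 : ℕ) = i + 1) := fun e => h (pos_ext e.1 e.2)
  rw [Fin.lt_def, sp_val, sp_val]
  split_ifs <;> omega

theorem sA_val {i : Fin n} {b : Pos n} (h : b ≠ zA i) : (sA i b).1 = (sp i b.1.1, sp i b.1.2) := by
  rw [sA, dif_pos (sp_lt h)]

theorem ev_apply (a x : Fin (n + 1)) : ev a x = if (x : ℕ) = a then 1 else 0 := by simp only [ev, Fin.ext_iff]

theorem sum_ev (a : Fin (n + 1)) : ∑ x, ev a x = 1 := by simp [ev]

theorem sum_mul_ev (m : Fin (n + 1) → ℤ) (a : Fin (n + 1)) : ∑ x, m x * ev a x = m a := by simp [ev]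

theorem ev_comp (π : Equiv.Perm (Fin (n + 1))) (a : Fin (n + 1)) : ev a ∘ π = ev (π.symm a) := by
  funext x; simp only [ev, Function.comp_apply, Equiv.eq_symm_apply]

theorem tw_add (m m' : Fin (n + 1) → ℤ) : tw (m + m') = tw m + tw m' := by funext i; simp only [tw, Pi.add_apply]; ring
theorem tw_sub (m m' : Fin (n + 1) → ℤ) : tw (m - m') = tw m - tw m' := by funext i; simp only [tw, Pi.sub_apply]; ring
theorem tw_neg (m : Fin (n + 1) → ℤ) : tw (-m) = -tw m := by funext i; simp only [tw, Pi.neg_apply]; ring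
theorem tw_smul (c : ℤ) (m : Fin (n + 1) → ℤ) : tw (c • m) = c • tw m := by
  funext i; simp only [tw, Pi.smul_apply, smul_eq_mul]; ring
theorem tw_const (c : ℤ) : tw (fun _ : Fin (n + 1) => c) = 0 := by funext i; simp [tw]
theorem tw_zero : tw (0 : Fin (n + 1) → ℤ) = 0 := tw_const 0

theorem ps_add (m m' : Fin (n + 1) → ℤ) : ps (m + m') = ps m + ps m' := by
  funext j; simp only [ps, Pi.add_apply, ← sum_add_distrib]; exact sum_congr rfl fun a _ => by split_ifs <;> simp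
theorem ps_sub (m m' : Fin (n + 1) → ℤ) : ps (m - m') = ps m - ps m' := by
  funext j; simp only [ps, Pi.sub_apply, ← sum_sub_distrib]; exact sum_congr rfl fun a _ => by split_ifs <;> simp
theorem ps_smul (c : ℤ) (m : Fin (n + 1) → ℤ) : ps (c • m) = c • ps m := by
  funext j; simp only [ps, Pi.smul_apply, smul_eq_mul, mul_sum]; exact sum_congr rfl fun a _ => by split_ifs <;> simp

theorem ps_ev (a : Fin (n + 1)) (j : Fin n) : ps (ev a) j = if (a : ℕ) ≤ j then 1 else 0 := by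
  rw [ps, sum_eq_single a (fun x _ h => by simp [ev, h]) (fun h => (h (mem_univ _)).elim)]
  simp [ev]

theorem ps_root (b : Pos n) (j : Fin n) : ps (ev b.1.1 - ev b.1.2) j = cfA b j := by
  have := pos_lt b
  rw [ps_sub, Pi.sub_apply, ps_ev, ps_ev, cfA]
  split_ifs <;> omega

theorem ps_sp (m : Fin (n + 1) → ℤ) (i j : Fin n) : ps (m ∘ sp i) j = ps m j - if j = i then tw m i else 0 := by
  have h1 : ps (m ∘ sp i) j = ∑ a : Fin (n + 1), if ((sp i a : Fin (n + 1)) : ℕ) ≤ j then m a else 0 := by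
    rw [ps, ← Equiv.sum_comp (sp i)]
    exact sum_congr rfl fun a _ => by rw [Function.comp_apply, sp_sp]
  have h2 : (if j = i then tw m i else 0) =
      ∑ a : Fin (n + 1), if j = i then m a * (ev i.castSucc a - ev i.succ a) else 0 := by
    split_ifs
    · simp only [mul_sub, sum_sub_distrib, sum_mul_ev, tw]
    · simp
  rw [h1, h2, ps, ← sum_sub_distrib]
  refine sum_congr rfl fun a _ => ?_
  simp only [sp_val, ev_apply, Fin.val_castSucc, Fin.val_succ, Fin.ext_iff]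
  split_ifs <;> omega

theorem eq_zero_of_ps {m : Fin (n + 1) → ℤ} (h : ps m = 0) (h' : ∑ a, m a = 0) : m = 0 := by
  have key : ∀ (t : ℕ) (a : Fin (n + 1)), (a : ℕ) = t → m a = 0 := by
    intro t
    induction t using Nat.strong_induction_on with
    | _ t ih =>
      intro a ha
      have h1 : (∑ x : Fin (n + 1), if (x : ℕ) ≤ a then m x else 0) = 0 := by
        by_cases h2 : (a : ℕ) < n
        · exact congrFun h ⟨a, h2⟩
        · rw [← h']
          exact sum_congr rfl fun x _ => if_pos (by omega)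
      rw [sum_eq_single a (fun x _ hx => ?_) (fun h => (h (mem_univ _)).elim), if_pos le_rfl] at h1
      · exact h1
      · have h3 : (x : ℕ) ≠ a := fun e => hx (Fin.ext e)
        split_ifs with h4
        · exact ih x (by omega) x rfl
        · rfl
  exact funext fun a => key a a rfl

theorem sum_bd (c : Fin n → ℤ) : ∑ a, bd c a = 0 := by
  simp only [bd, Finset.sum_apply, Pi.smul_apply, Pi.sub_apply, smul_eq_mul]
  rw [sum_comm]
  exact sum_eq_zero fun j _ => by rw [← mul_sum, sum_sub_distrib, sum_ev, sum_ev, sub_self, mul_zero]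

theorem ps_sum {α : Type} (s : Finset α) (f : α → Fin (n + 1) → ℤ) : ps (∑ a ∈ s, f a) = ∑ a ∈ s, ps (f a) := by
  classical
  induction s using Finset.induction_on with
  | empty => funext j; simp [ps]
  | insert a s ha ih => rw [sum_insert ha, sum_insert ha, ps_add, ih]

theorem tw_sum {α : Type} (s : Finset α) (f : α → Fin (n + 1) → ℤ) : tw (∑ a ∈ s, f a) = ∑ a ∈ s, tw (f a) := by
  classical
  induction s using Finset.induction_on with
  | empty => funext j; simp [tw]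
  | insert a s ha ih => rw [sum_insert ha, sum_insert ha, tw_add, ih]

theorem ps_bd (c : Fin n → ℤ) : ps (bd c) = c := by
  funext i
  rw [bd, ps_sum, Finset.sum_apply, sum_eq_single i (fun j _ h => ?_) (fun h => (h (mem_univ _)).elim)]
  · rw [ps_smul, ps_sub, Pi.smul_apply, Pi.sub_apply, ps_ev, ps_ev]
    simp
  · have h1 : (j : ℕ) ≠ i := fun e => h (Fin.ext e)
    rw [ps_smul, ps_sub, Pi.smul_apply, Pi.sub_apply, ps_ev, ps_ev]
    simp only [Fin.val_castSucc, Fin.val_succ]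
    split_ifs <;> first | omega | simp

theorem bd_ps {m : Fin (n + 1) → ℤ} (h : ∑ a, m a = 0) : bd (ps m) = m := by
  rw [← sub_eq_zero]
  refine eq_zero_of_ps (by rw [ps_sub, ps_bd, sub_self]) ?_
  simp only [Pi.sub_apply, sum_sub_distrib, sum_bd, h, sub_self]

theorem tw_simple (i j : Fin n) : tw (ev j.castSucc - ev j.succ) i = CA i j := by
  simp only [tw, Pi.sub_apply, ev_apply, Fin.val_castSucc, Fin.val_succ, CA]
  omega

theorem tw_bd (c : Fin n → ℤ) (i : Fin n) : tw (bd c) i = ∑ j, CA i j * c j := by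
  rw [bd, tw_sum, Finset.sum_apply]
  exact sum_congr rfl fun j _ => by rw [tw_smul, Pi.smul_apply, tw_simple, smul_eq_mul, mul_comm]

theorem const_of_tw {m : Fin (n + 1) → ℤ} (h : tw m = 0) (a : Fin (n + 1)) : m a = m 0 := by
  induction a using Fin.induction with
  | zero => rfl
  | succ i ih => have := congrFun h i; simp only [tw, Pi.zero_apply] at this; omega

theorem tw_inj {m m' : Fin (n + 1) → ℤ} (h : tw m = tw m') (h' : ∑ a, m a = ∑ a, m' a) : m = m' := by
  have h1 : tw (m - m') = 0 := by rw [tw_sub, h, sub_self]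
  have h2 : ∑ a, (m - m') a = 0 := by simp only [Pi.sub_apply, sum_sub_distrib, h', sub_self]
  rw [sum_congr rfl fun a _ => const_of_tw h1 a, sum_const, card_univ, Fintype.card_fin, nsmul_eq_mul,
    mul_eq_zero] at h2
  have h3 : (m - m') 0 = 0 := h2.resolve_left (by positivity)
  funext a
  have := const_of_tw h1 a
  simp only [Pi.sub_apply] at this h3
  omega

theorem sum_root (a b : Fin (n + 1)) : ∑ x, (ev a - ev b) x = 0 := by
  simp only [Pi.sub_apply, sum_sub_distrib, sum_ev, sub_self]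

theorem sum_CA_cf (b : Pos n) (i : Fin n) : ∑ j, CA i j * cfA b j = tw (ev b.1.1 - ev b.1.2) i := by
  rw [← bd_ps (sum_root b.1.1 b.1.2), tw_bd]
  exact sum_congr rfl fun j _ => by rw [ps_root]

theorem CA_symm (i j : Fin n) : CA i j = CA j i := by unfold CA; omega

theorem cfA_sA {i : Fin n} {b : Pos n} (h : b ≠ zA i) (j : Fin n) :
    (cfA (sA i b) j : ℤ) = cfA b j - if j = i then ∑ l, CA i l * cfA b l else 0 := by
  rw [← ps_root, ← ps_root, sum_CA_cf, ← ps_sp, sA_val h]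
  congr 1
  funext x
  simp only [Pi.sub_apply, Function.comp_apply, ev, sp, Equiv.swap_apply_eq_iff]

theorem cfA_inj : Function.Injective (cfA (n := n)) := by
  intro b b' h
  have h1 : ev b.1.1 - ev b.1.2 = ev b'.1.1 - ev b'.1.2 := by
    rw [← bd_ps (sum_root b.1.1 b.1.2), ← bd_ps (sum_root b'.1.1 b'.1.2)]
    congr 1
    funext j
    rw [ps_root, ps_root, h]
  have h2 := congrFun h1 b.1.1
  have h3 := congrFun h1 b.1.2
  have h4 := pos_lt b
  have h5 := pos_lt b'
  simp only [Pi.sub_apply, ev_apply, if_true] at h2 h3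
  refine pos_ext ?_ ?_ <;> omega

theorem cfA_zA (i : Fin n) : cfA (zA i) = Pi.single i 1 := by
  funext j
  rw [cfA, zA_fst, zA_snd, Pi.single_apply]
  by_cases h : j = i
  · rw [if_pos h, if_pos (by rw [h]; omega)]
  · rw [if_neg h, if_neg (fun e => h (Fin.ext (by omega)))]

/-- the root combinatorics of type `A_n` -/
def RA (n : ℕ) : RC (Fin n) (Pos n) where
  zi := zA
  cf := cfA
  co := cfA
  C := CA
  s := sA
  cf_zi := cfA_zA
  co_zi := cfA_zA
  C_self i := by simp [CA]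
  C_inj c h := by
    have h1 : bd c = 0 := tw_inj (by rw [tw_zero]; funext i; rw [tw_bd, h i]; rfl) (by rw [sum_bd]; simp)
    rw [← ps_bd c, h1]
    funext j
    simp [ps]
  cf_inj := cfA_inj
  red b i m h := by
    have h0 := pos_lt b
    have h4 := b.1.2.2
    have h1 := congrFun h ⟨b.1.1, by omega⟩
    have h2 := congrFun h ⟨b.1.2 - 1, by omega⟩
    simp only [cfA, Pi.single_apply, Fin.ext_iff] at h1 h2
    refine pos_ext ?_ ?_ <;> simp only [zA_fst, zA_snd] <;> split_ifs at h1 h2 <;> omega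
  cf_s i b h j := cfA_sA h j
  co_s i b h j := by
    rw [cfA_sA h j]
    congr 2
    exact sum_congr rfl fun l _ => by rw [CA_symm, mul_comm]
  desc b _ := by
    have h0 := pos_lt b
    have h4 := b.1.2.2
    refine ⟨⟨b.1.1, by omega⟩, ?_⟩
    rw [sum_CA_cf]
    simp only [tw, Pi.sub_apply, ev_apply, Fin.val_castSucc, Fin.val_succ, if_true]
    omega

/-- `R` is of type `A_n` -/
structure IsA (R : RC (Fin n) (Pos n)) : Prop where
  zi : R.zi = zA
  cf : R.cf = cfA
  co : R.co = cfA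
  C : R.C = CA

theorem isA_RA : IsA (RA n) := ⟨rfl, rfl, rfl, rfl⟩

/-- the graph symmetry on the positive roots -/
def fl (n : ℕ) : Equiv.Perm (Pos n) where
  toFun b := ⟨(b.1.2.rev, b.1.1.rev), Fin.rev_lt_rev.2 b.2⟩
  invFun b := ⟨(b.1.2.rev, b.1.1.rev), Fin.rev_lt_rev.2 b.2⟩
  left_inv _ := Subtype.ext (Prod.ext (Fin.rev_rev _) (Fin.rev_rev _))
  right_inv _ := Subtype.ext (Prod.ext (Fin.rev_rev _) (Fin.rev_rev _))

theorem fl_fst (b : Pos n) : ((fl n b).1.1 : ℕ) = n - b.1.2 := by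
  show ((b.1.2.rev : Fin (n + 1)) : ℕ) = _
  rw [Fin.val_rev]; omega

theorem fl_snd (b : Pos n) : ((fl n b).1.2 : ℕ) = n - b.1.1 := by
  show ((b.1.1.rev : Fin (n + 1)) : ℕ) = _
  rw [Fin.val_rev]; omega

theorem fl_fl (b : Pos n) : fl n (fl n b) = b := (fl n).left_inv b

namespace IsA

variable {R : RC (Fin n) (Pos n)} (hR : IsA R)
include hR

theorem toWt_eq (c : Fin n → ℤ) : R.toWt c = tw (bd c) := by
  funext i; rw [tw_bd, RC.toWt, hR.C]

theorem toWt_ps {m : Fin (n + 1) → ℤ} (h : ∑ a, m a = 0) : R.toWt (ps m) = tw m := by rw [hR.toWt_eq, bd_ps h]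

theorem vec_true (b : Pos n) : R.vec (true, b) = ps (ev b.1.1 - ev b.1.2) := by
  funext j; rw [RC.vec_true, hR.cf, ps_root]

theorem vec_false (b : Pos n) : R.vec (false, b) = ps (ev b.1.2 - ev b.1.1) := by
  rw [RC.vec_false', hR.vec_true, ps_sub, ps_sub, neg_sub]

theorem wt_true (b : Pos n) : R.wt (true, b) = tw (ev b.1.1 - ev b.1.2) := by
  rw [RC.wt, hR.vec_true, hR.toWt_ps (sum_root _ _)]

theorem wt_false (b : Pos n) : R.wt (false, b) = tw (ev b.1.2 - ev b.1.1) := by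
  rw [RC.wt_false, hR.wt_true, ← tw_neg, neg_sub]

theorem s_eq {i : Fin n} {b : Pos n} (h : b ≠ zA i) : R.s i b = sA i b := by
  apply cfA_inj
  funext j
  have h1 := R.cf_s i b (by rw [hR.zi]; exact h) j
  rw [hR.cf, hR.C, ← cfA_sA h j] at h1
  exact_mod_cast h1

theorem pair_tw (m : Fin (n + 1) → ℤ) (b : Pos n) : R.pair (tw m) (true, b) = m b.1.1 - m b.1.2 := by
  have h1 : ∀ x : Fin (n + 1), ∑ i, ps (ev x) i * tw m i = m x - m (Fin.last n) := by
    intro x
    induction x using Fin.reverseInduction with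
    | last => rw [sub_self]; exact sum_eq_zero fun i _ => by rw [ps_ev, if_neg (by simp), zero_mul]
    | cast j ih =>
      have h2 : ∑ i, ps (ev j.castSucc) i * tw m i = ∑ i, ps (ev j.succ) i * tw m i + tw m j := by
        rw [← sub_eq_iff_eq_add', ← sum_sub_distrib, sum_eq_single j (fun i _ h => ?_) (fun h => (h (mem_univ _)).elim)]
        · rw [ps_ev, ps_ev]; simp
        · have h3 : (i : ℕ) ≠ j := fun e => h (Fin.ext e)
          rw [ps_ev, ps_ev]
          simp only [Fin.val_castSucc, Fin.val_succ]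
          split_ifs <;> omega
      rw [h2, ih, tw]; ring
  have h2 : R.pair (tw m) (true, b) = ∑ i, ps (ev b.1.1) i * tw m i - ∑ i, ps (ev b.1.2) i * tw m i := by
    rw [RC.pair, ← sum_sub_distrib]
    exact sum_congr rfl fun i _ => by rw [RC.cov_true, hR.co, ← ps_root, ps_sub, Pi.sub_apply, sub_mul]
  rw [h2, h1, h1]; ring

theorem pair_tw' (m : Fin (n + 1) → ℤ) (b : Pos n) : R.pair (tw m) (false, b) = m b.1.2 - m b.1.1 := by
  rw [RC.pair_false, hR.pair_tw]; ring

theorem sw_tw (i : Fin n) (m : Fin (n + 1) → ℤ) : R.sw i (tw m) = tw (m ∘ sp i) := by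
  rw [RC.sw, hR.wt_true, hR.zi, ← tw_smul, ← tw_sub]
  congr 1
  funext x
  simp only [Pi.sub_apply, Pi.smul_apply, smul_eq_mul, Function.comp_apply, sp, ev, zA, tw, Equiv.swap_apply_def]
  have := (Fin.castSucc_lt_succ (i := i)).ne
  split_ifs with h1 h2 h2
  · exact (this (h1.symm.trans h2)).elim
  · rw [h1]; ring
  · rw [h2]; ring
  · ring

theorem swl_tw (l : List (Fin n)) : ∃ π : Equiv.Perm (Fin (n + 1)), ∀ m, R.swl l (tw m) = tw (m ∘ π) := by
  induction l with
  | nil => exact ⟨1, fun m => rfl⟩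
  | cons i l ih =>
    obtain ⟨π, h⟩ := ih
    exact ⟨π * sp i, fun m => by rw [RC.swl_cons, h, hR.sw_tw]; rfl⟩

theorem exists_swl (π : Equiv.Perm (Fin (n + 1))) : ∃ l, ∀ m, R.swl l (tw m) = tw (m ∘ π) := by
  have h : π ∈ Submonoid.closure (Set.range fun i : Fin n => Equiv.swap i.castSucc i.succ) := by
    rw [Equiv.Perm.mclosure_swap_castSucc_succ]; trivial
  induction h using Submonoid.closure_induction with
  | mem x hx => obtain ⟨i, rfl⟩ := hx; exact ⟨[i], fun m => hR.sw_tw i m⟩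
  | one => exact ⟨[], fun m => rfl⟩
  | mul a b _ _ h1 h2 =>
    obtain ⟨l, h1⟩ := h1
    obtain ⟨l', h2⟩ := h2
    exact ⟨l' ++ l, fun m => by rw [RC.swl_append, h1, h2]; rfl⟩

/-- roots as pairs of different indices -/
theorem exists_pair (x : Bool × Pos n) : ∃ a b : Fin (n + 1), a ≠ b ∧ R.vec x = ps (ev a - ev b) ∧
    R.wt x = tw (ev a - ev b) ∧ ∀ m, R.pair (tw m) x = m a - m b := by
  rcases x with ⟨_ | _, b⟩
  · exact ⟨_, _, b.2.ne', hR.vec_false b, hR.wt_false b, fun m => hR.pair_tw' m b⟩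
  · exact ⟨_, _, b.2.ne, hR.vec_true b, hR.wt_true b, fun m => hR.pair_tw m b⟩

theorem lace : R.Lace1 := by
  intro x y h
  obtain ⟨a, b, h1, h2, h3, -⟩ := hR.exists_pair x
  obtain ⟨c, d, h4, h5, -, h6⟩ := hR.exists_pair y
  have h7 : ¬ (c = a ∧ d = b) := fun e => h (R.vec_inj (by rw [h2, h5, e.1, e.2]))
  rw [h3, h6]
  simp only [Pi.sub_apply, ev_apply]
  simp only [ne_eq, Fin.ext_iff] at h1 h4 h7
  omega

theorem conn : R.Conn := by
  have key : ∀ (t : ℕ) (i j : Fin n), (j : ℕ) = i + t →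
      Relation.ReflTransGen (fun a b => R.C a b ≠ 0) i j ∧ Relation.ReflTransGen (fun a b => R.C a b ≠ 0) j i := by
    intro t
    induction t with
    | zero => intro i j h; rw [show j = i from Fin.ext h]; exact ⟨.refl, .refl⟩
    | succ t ih =>
      intro i j h
      obtain ⟨h1, h2⟩ := ih i ⟨i + t, by omega⟩ rfl
      refine ⟨h1.tail ?_, h2.head ?_⟩ <;> rw [hR.C] <;> simp only [CA] <;> split_ifs <;> omega
  intro i j
  rcases le_total (i : ℕ) j with h | h
  · exact (key (j - i) i j (by omega)).1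
  · exact (key (i - j) j i (by omega)).2

theorem isRt_iff (c : Fin n → ℤ) : R.IsRt c ↔ ∃ a b : Fin (n + 1), a ≠ b ∧ c = ps (ev a - ev b) := by
  constructor
  · rintro ⟨z, rfl⟩
    obtain ⟨a, b, h1, h2, -⟩ := hR.exists_pair z
    exact ⟨a, b, h1, h2⟩
  · rintro ⟨a, b, h1, rfl⟩
    rcases lt_or_gt_of_ne h1 with h | h
    · exact ⟨(true, ⟨(a, b), h⟩), hR.vec_true _⟩
    · exact ⟨(false, ⟨(b, a), h⟩), hR.vec_false _⟩

/-- sums of two roots -/
theorem isRt_add_iff {a b c d : Fin (n + 1)} (h1 : a ≠ b) (h2 : c ≠ d) :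
    R.IsRt (ps (ev a - ev b) + ps (ev c - ev d)) ↔ (b = c ∧ a ≠ d) ∨ (a = d ∧ b ≠ c) := by
  rw [hR.isRt_iff]
  constructor
  · rintro ⟨x, y, h3, h4⟩
    have h5 : ev a - ev b + (ev c - ev d) - (ev x - ev y) = 0 :=
      eq_zero_of_ps (by rw [ps_sub, ps_add, h4, sub_self])
        (by simp only [Pi.sub_apply, Pi.add_apply, sum_sub_distrib, sum_add_distrib, sum_ev]; ring)
    have e1 := congrFun h5 a
    have e2 := congrFun h5 c
    have e3 := congrFun h5 x
    simp only [Pi.sub_apply, Pi.add_apply, Pi.zero_apply, ev_apply, if_true] at e1 e2 e3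
    simp only [ne_eq, Fin.ext_iff] at h1 h2 h3 ⊢
    omega
  · rintro (⟨rfl, h⟩ | ⟨rfl, h⟩)
    · exact ⟨a, d, h, by rw [← ps_add]; congr 1; abel⟩
    · exact ⟨c, b, h.symm, by rw [← ps_add]; congr 1; abel⟩

theorem nz_true {p : ℕ} (hp : p ≠ 1) (b b' : Pos n) : R.NZ p (true, b) (true, b') ↔ b.1.2 = b'.1.1 ∨ b.1.1 = b'.1.2 := by
  rw [hR.lace.nz_iff hp, hR.vec_true, hR.vec_true, hR.isRt_add_iff b.2.ne b'.2.ne]
  have h1 := pos_lt b
  have h2 := pos_lt b'
  simp only [ne_eq, Fin.ext_iff]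
  omega

theorem ab_iff {p : ℕ} (hp : p ≠ 1) (S : Finset (Pos n)) : R.Ab p S ↔ ∀ b ∈ S, ∀ b' ∈ S, b.1.2 ≠ b'.1.1 := by
  simp only [RC.Ab, hR.nz_true hp, not_or]
  exact ⟨fun h b hb b' hb' => (h b hb b' hb').1, fun h b hb b' hb' => ⟨h b hb b' hb', fun e => h b' hb' b hb e.symm⟩⟩

theorem cf_add {a b c : Fin (n + 1)} (h1 : a < b) (h2 : b < c) :
    R.cf ⟨(a, c), h1.trans h2⟩ = R.cf ⟨(a, b), h1⟩ + R.cf ⟨(b, c), h2⟩ := by
  funext j
  rw [Fin.lt_def] at h1 h2
  simp only [hR.cf, cfA, Pi.add_apply]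
  split_ifs <;> omega

/-- ideals are closed under enlarging the interval -/
theorem idl_mem {p : ℕ} (hp : p ≠ 1) {S : Finset (Pos n)} (hS : R.Idl p S) {b b' : Pos n} (hb : b ∈ S)
    (h1 : b'.1.1 ≤ b.1.1) (h2 : b.1.2 ≤ b'.1.2) : b' ∈ S := by
  obtain ⟨⟨a, c⟩, h⟩ := b
  obtain ⟨⟨a', c'⟩, h'⟩ := b'
  simp only at h h' h1 h2
  have h3 : (⟨(a', c), lt_of_le_of_lt h1 h⟩ : Pos n) ∈ S := by
    rcases h1.lt_or_eq with h4 | rfl
    · exact hS _ hb ⟨(a', a), h4⟩ _ (hR.cf_add h4 h) ((hR.nz_true hp _ _).2 (Or.inl rfl))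
    · exact hb
  rcases h2.lt_or_eq with h4 | rfl
  · exact hS _ h3 ⟨(c, c'), h4⟩ _ ((hR.cf_add (lt_of_le_of_lt h1 h) h4).trans (add_comm _ _))
      ((hR.nz_true hp _ _).2 (Or.inr rfl))
  · exact h3

end IsA

end Cfsg.Agent.TwoF.DC.TA
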